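import Cfsg.Agent.FusionAlperin.Pullback.Classes
import Cfsg.Agent.FusionSys.SaturationCriterion

/-!
The generated system is a normal subsystem of `F`.
-/

set_option autoImplicit false
set_option linter.unusedSectionVars false

open Cfsg Cfsg.FusionSystem
open Cfsg.Agent.FusionSys
open Cfsg.Agent.S5119 (InvT autExt_inv autExt_inv' autExt_mul)

namespace Cfsg.Agent.FusionAlperin.CentralData

variable {Ω : Type*} [Group Ω] {Ω' : Type*} [Group Ω'] {S : Subgroup Ω} {S' V : Subgroup Ω'}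
  {p : ℕ} (d : CentralData S S' V p) [Finite S] [Fact p.Prime]

theorem gen_saturated : d.gen.IsSaturated p := by
  have := d.finite_U
  have := d.finite_V
  have hUp := d.hS.to_le d.U_le
  refine saturated_of_generated hUp (ℋ := {P | d.Hc P}) (fun P hP Q hQ => ?_) (fun P hP => ?_)
    (fun E hE => d.gen_le fun Q hQ a ha => (mem_autGroup E hQ.2.1).2
      (hE Q hQ (autGroup_mem_hom d.gen hQ.2.1 (d.gen_containsGen Q hQ ha)))) ?_
  · obtain ⟨e, he⟩ := (isConj_iff_exists_iso d.gen).1 hQ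
    exact (show d.Hc P from hP).congr (d.gen_sub _ he)
  · obtain ⟨R, hPR, hR, ht⟩ := d.exists_rep hP
    have heq := d.gen_aut_eq_loc hR ht
    have hsyl := d.sylIn_loc hR ht
    rw [← heq] at hsyl
    refine ⟨R, hPR, ⟨hR.2.1, hsyl.2⟩, hR.2.1, fun X φ hφ hr => ?_⟩
    subst hr
    set e := toIso d.gen hφ rfl
    have he : IsIso d.gen e := toIso_isIso d.gen hφ rfl
    obtain ⟨f, hf, g, hg, hge⟩ := d.exists_transport hR ht he.isConj
    set a : MulAut φ.range := f.symm.trans e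
    have ha : a ∈ d.gen.autGroup φ.range := (mem_autGroup d.gen hR.2.1).2 (hf.symm.trans he)
    set N := extender d.U X φ
    have hN : N ≤ normalizerIn d.U X := extender_le_normalizerIn φ
    have hXU : X ≤ d.U := le_S d.gen hφ
    have hXN : X ≤ N := le_extender hXU (map_mem_S d.gen hφ)
    set γ := restr hN g
    have hγ : γ ∈ d.gen.Hom N := restr_mem d.gen hN hg
    have hγX : ∀ x : X, γ (Subgroup.inclusion hXN x) = f x := fun x => hge x _
    set Y := γ.range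
    have hYN : Y ≤ normalizerIn d.U φ.range := by
      rintro _ ⟨n, rfl⟩
      exact ⟨map_mem_S d.gen hγ n, map_mem_normalizer hXN (hN.trans inf_le_right)
        ((map_subgroupOf_eq_range X hXN (φ := φ.range.subtype.comp f.toMonoidHom) hγX).trans
          (range_subtype_comp f)) n⟩
    have hRY : φ.range ≤ Y := fun y hy =>
      ⟨Subgroup.inclusion hXN (f.symm ⟨y, hy⟩), by rw [hγX, MulEquiv.apply_symm_apply]⟩
    have hA : Inn φ.range ≤ autInducedBy Y φ.range := inn_le_autInducedBy hRY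
    have hAU : autInducedBy Y φ.range ≤ autInducedBy d.U φ.range :=
      autInducedBy_mono (hYN.trans (normalizerIn_le _)) _
    have haA : conjA a (autInducedBy Y φ.range) ≤ autInducedBy d.U φ.range := by
      rintro _ ⟨c, hc, rfl⟩
      obtain ⟨_, ⟨n, rfl⟩, hnc⟩ := mem_autInducedBy.1 hc
      obtain ⟨-, hnN, h, hh, hhe⟩ := mem_extender.1 n.2
      refine mem_autInducedBy.2 ⟨h, hh, fun y => ?_⟩
      obtain ⟨x, rfl⟩ := e.surjective y
      show (((a * c * a⁻¹) (e x) : φ.range) : Ω) = _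
      simp only [MulAut.mul_apply, MulAut.inv_def]
      show ((e (f.symm (c (f (e.symm (e x))))) : φ.range) : Ω) = h * φ x * h⁻¹
      rw [MulEquiv.symm_apply_apply]
      have hx : (n : Ω) * x * (n : Ω)⁻¹ ∈ X := (Subgroup.mem_normalizer_iff.1 hnN _).1 x.2
      have hcf : c (f x) = f ⟨_, hx⟩ := Subtype.ext (by
        rw [hnc, ← hγX, ← hγX, ← map_inv, ← map_mul, ← map_mul]
        exact congrArg γ (Subtype.ext rfl))
      rw [hcf, MulEquiv.symm_apply_apply]
      exact hhe x hx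
    obtain ⟨Δ, hΔ, hΔe⟩ := d.extends_loc hR ht hA hAU (heq.le ha) haA
    have hpre := d.preAut_autInducedBy hR hRY hYN
    have hv : ∀ n, γ n ∈ d.preAut φ.range (autInducedBy Y φ.range) := fun n => hpre.ge ⟨n, rfl⟩
    refine ⟨_, d.gen.comp_mem hγ hΔ hv, fun x hx hxN => ?_⟩
    show Δ ⟨γ ⟨x, hxN⟩, _⟩ = _
    have e1 : γ ⟨x, hxN⟩ = f ⟨x, hx⟩ := hγX ⟨x, hx⟩
    refine Eq.trans (congrArg Δ (Subtype.ext e1)) ((hΔe (f ⟨x, hx⟩) (e1 ▸ hv _)).trans ?_)
    show ((e (f.symm (f ⟨x, hx⟩)) : φ.range) : Ω) = _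
    rw [MulEquiv.symm_apply_apply]
    rfl
  · intro P hc hP
    have hPU := hc.1
    have hPS := hPU.trans d.U_le
    have hZP : d.Z ≤ P := fun z hz => hc.2 P (isConj_refl d.gen hPU)
      ⟨d.Z_le_U hz, Subgroup.mem_centralizer_iff.2 fun x hx => d.Z_comm hz (hPS hx)⟩
    have hV := d.img_le_V hPU
    have hnc : ¬ d.B.IsCentric (d.img P) := fun h =>
      hP ⟨hZP, hPU, tCentric_of_centric d.inv_B h⟩
    obtain ⟨R', ⟨φ', hφ', hR'⟩, y, hy, hyR⟩ :
        ∃ R', d.B.IsConj (d.img P) R' ∧ ∃ y ∈ centralizerIn V R', y ∉ R' := by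
      by_contra hne
      refine hnc ⟨hV, fun R' hR' y hy => ?_⟩
      by_contra hyR
      exact hne ⟨R', hR', y, hy, hyR⟩
    subst hR'
    obtain ⟨g, hg, hge⟩ := d.lifts_of_mem hφ'
    have hle : P ≤ d.pre (d.img P) := (d.pre_img hZP hPS).ge
    have hgP := restr_mem d.gen hle hg
    set Q := (restr hle g).range
    have hconj : d.gen.IsConj P Q := ⟨_, hgP, rfl⟩
    have hQU : Q ≤ d.U := isConj_le_right hconj
    have hQS := hQU.trans d.U_le
    have hZQ : d.Z ≤ Q := d.Z_le_range (d.gen_sub _ hgP) hZP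
    have himg : d.img Q = φ'.range :=
      (d.img_range (d.gen_sub _ hgP) fun x h =>
        hge (Subgroup.inclusion hle x) h).symm
    obtain ⟨u, hu, huy⟩ := d.π_surj (d.V_le hy.1)
    have huU : u ∈ d.U := d.mem_U.2 ⟨hu, huy.symm ▸ hy.1⟩
    have hcent : ∀ x : Q, d.π u * d.π x * (d.π u)⁻¹ = d.π x := fun x => by
      rw [huy]
      exact (mem_centralizerIn_iff_conj.1 hy).2 ⟨d.π x, himg.le (d.π_mem_img hQS x.2)⟩
    have huN : u ∈ normalizerIn S Q := by
      refine d.mem_normalizer_of_π hZQ hQS hu (huy.symm ▸ ?_)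
      rw [himg]
      exact (centralizerIn_le_normalizerIn _ hy).2
    refine ⟨Q, hconj, fun hcon => ?_⟩
    set c := Q.normalizerMonoidHom ⟨u, huN.2⟩
    have hcU : c ∈ autInducedBy d.U Q := mem_autInducedBy.2 ⟨u, huU, fun _ => rfl⟩
    have hcK : c ∈ d.K Q :=
      ⟨autInducedBy_le_autGroup d.F hQS (autInducedBy_mono d.U_le Q hcU), fun x => by
        show d.π (u * (x : Ω) * u⁻¹) = _
        rw [d.π_conj hu (hQS x.2)]
        exact hcent x⟩
    have hcore : c ∈ autCore d.gen p Q := by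
      have hcg : c ∈ d.gen.autGroup Q := autInducedBy_le_autGroup d.gen hQU hcU
      set M := (d.K Q).subgroupOf (d.gen.autGroup Q)
      have hn : M.Normal := ⟨fun k hk a => d.conj_mem_K hQS
        ((mem_autGroup d.F hQS).2 (d.gen_sub _ (autGroup_mem_hom d.gen hQU a.2))) hk⟩
      have hp : IsPGroup p M :=
        (d.isPGroup_K hQS).comap_of_injective _ (d.gen.autGroup Q).subtype_injective
      exact ⟨⟨c, hcg⟩, Cores.le_pCore hn hp hcK, rfl⟩
    obtain ⟨q, hq⟩ := hcon ⟨hcU, hcore⟩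
    have huQ : u ∈ Q := by
      have h1 : (q : Ω)⁻¹ * u ∈ centralizerIn d.U Q := mem_centralizerIn_iff_conj.2
        ⟨d.U.mul_mem (d.U.inv_mem (hQU q.2)) huU, fun x => by
          have e : (q : Ω) * x * (q : Ω)⁻¹ = u * x * u⁻¹ :=
            congrArg (fun a : MulAut Q => ((a x : Q) : Ω)) hq
          calc (q : Ω)⁻¹ * u * x * ((q : Ω)⁻¹ * u)⁻¹ = (q : Ω)⁻¹ * (u * x * u⁻¹) * q := by group
            _ = x := by rw [← e]; group⟩
      have h2 := Q.mul_mem q.2 (hc.2 Q hconj h1)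
      rwa [mul_inv_cancel_left] at h2
    exact hyR (huy ▸ himg.le (d.π_mem_img hQS huQ))

theorem gen_invT : InvT d.F d.gen := by
  intro β hβ P φ hφ
  have hUS := d.U_le
  have hβh : ∀ {x y : Ω}, x ∈ d.U → y ∈ d.U → autExt β (x * y) = autExt β x * autExt β y := by
    intro x y hx hy
    rw [autExt_of_mem β hx, autExt_of_mem β hy, autExt_of_mem β (d.U.mul_mem hx hy),
      ← Subgroup.coe_mul, ← map_mul]
    rfl
  have hβi : ∀ {x : Ω}, x ∈ d.U → autExt β x⁻¹ = (autExt β x)⁻¹ := by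
    intro x hx
    rw [autExt_of_mem β hx, autExt_of_mem β (d.U.inv_mem hx), ← Subgroup.coe_inv, ← map_inv]
    rfl
  let G : FusionSystem d.U := subSystem d.gen
    (fun P φ => ∃ χ ∈ d.gen.Hom (autImage β P), ∀ (x : P) (h : autExt β x ∈ autImage β P),
      χ ⟨autExt β x, h⟩ = autExt β (φ x))
    (fun {P g} hP hg => by
      refine ⟨conjHom (autImage β P) (autExt β g), d.gen.conj_mem (autImage_le β P)
        (by rw [autExt_of_mem β hg]; exact (β ⟨g, hg⟩).2), fun x h => ?_⟩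
      show _ = autExt β (g * (x : Ω) * g⁻¹)
      rw [hβh (d.U.mul_mem hg (hP x.2)) (d.U.inv_mem hg), hβh hg (hP x.2), hβi hg]
      rfl)
    (fun {P Q φ ψ} hφ hψ ⟨a, ha, hae⟩ ⟨b, hb, hbe⟩ h => by
      have hm : ∀ y, a y ∈ autImage β Q := by
        intro y
        obtain ⟨x, hx, hxT, hxy⟩ := exists_autExt_eq β y
        have hy : y = ⟨autExt β (⟨x, hx⟩ : P), autExt_mem_autImage β (le_S d.gen hφ) hx⟩ :=
          Subtype.ext hxy.symm
        rw [hy, hae]
        exact autExt_mem_autImage β (le_S d.gen hψ) (h _)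
      refine ⟨_, d.gen.comp_mem ha hb hm, fun x hx => ?_⟩
      refine Eq.trans ?_ (hbe ⟨φ x, h x⟩ (autExt_mem_autImage β (le_S d.gen hψ) (h x)))
      exact congrArg b (Subtype.ext (hae x hx)))
    (fun {P φ} hφ ⟨a, ha, hae⟩ ψ hψ he => by
      obtain ⟨c, hc, hce⟩ := d.gen.inv_mem ha
      have hle : autImage β φ.range ≤ a.range := by
        intro y hy
        obtain ⟨z, ⟨x, hxz⟩, hzT, hzy⟩ := exists_autExt_eq β ⟨y, hy⟩
        refine ⟨⟨_, autExt_mem_autImage β (le_S d.gen hφ) x.2⟩, ?_⟩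
        rw [hae, hxz]
        exact hzy
      refine ⟨_, restr_mem d.gen hle hc, fun y hy => ?_⟩
      obtain ⟨x, hx⟩ := y.2
      have hy' : y = ⟨φ x, x, rfl⟩ := Subtype.ext hx.symm
      subst hy'
      rw [he x]
      refine Eq.trans ?_ (hce ⟨_, autExt_mem_autImage β (le_S d.gen hφ) x.2⟩)
      exact congrArg c (Subtype.ext (hae x (autExt_mem_autImage β (le_S d.gen hφ) x.2)).symm))
  have hG : d.ContainsGen G := by
    intro Q hQ a ha
    have hQU := hQ.2.1
    refine (mem_autGroup G hQU).2 ⟨autGroup_mem_hom d.gen hQU (d.gen_containsGen Q hQ ha), ?_⟩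
    have hφ := restr_mem d.F hQU (autGroup_mem_hom d.F hUS hβ)
    have hr : (restr hQU (d.U.subtype.comp β.toMonoidHom)).range = autImage β Q := range_restr hQU _
    set e := toIso d.F hφ hr
    have he : IsIso d.F e := toIso_isIso d.F hφ hr
    have hmem : MulAut.congr e a ∈ d.ppSet (autImage β Q) :=
      ⟨d.congr_mem_pull hQU he ha.1,
        ((congrArg (Nat.Coprime · p) (MulEquiv.orderOf_eq (MulAut.congr e) a)).mpr ha.2 : _)⟩
    refine ⟨_, autGroup_mem_hom d.gen (autImage_le β Q)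
      (d.gen_containsGen _ (hQ.congr he) hmem), fun x h => ?_⟩
    have hx : (⟨autExt β x, h⟩ : autImage β Q) = e x := Subtype.ext (autExt_of_mem β (hQU x.2))
    show ((MulAut.congr e a ⟨autExt β x, h⟩ : autImage β Q) : Ω) = autExt β (a x : Ω)
    rw [hx, autCongr_apply, MulEquiv.symm_apply_apply]
    exact (autExt_of_mem β (hQU (a x).2)).symm
  exact (d.gen_le hG P hφ).2

/-- A map with the decomposition over `B` lifting that of its image. -/
theorem exists_decomp_same_image {P : Subgroup Ω} (hZ : d.Z ≤ P) (hP : P ≤ d.U) {φ : P →* Ω}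
    (hφ : φ ∈ d.F.Hom P) :
    ∃ χ ∈ d.F.Hom P, DecompIn (d.F.autGroup d.U) d.gen P χ ∧ χ.range = φ.range ∧
      ∀ x : P, d.π (χ x) = d.π (φ x) := by
  have := d.finite_S'
  have hPS := hP.trans d.U_le
  obtain ⟨φ', hφ', hre⟩ := d.exists_E_map hφ
  obtain ⟨α', hα', φ₀', hφ₀', hdec⟩ := d.inv_B.2.2.2 _ (d.img_le_V hP) φ' hφ'
  obtain ⟨g, hg, hge⟩ := d.lifts_of_mem hφ₀'
  have hle : P ≤ d.pre (d.img P) := (d.pre_img hZ hPS).ge
  have hφ₀ := restr_mem d.gen hle hg
  have himgU : d.img d.U ≤ V := d.img_le_V le_rfl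
  obtain ⟨α, hα, hαe⟩ := d.exists_lift d.Z_le_U d.U_le
    (restr_mem d.E himgU (autGroup_mem_hom d.E d.V_le hα'))
  have : Finite d.U := d.finite_U
  have hαr : α.range = d.U := range_eq_of_image_le (d.F.injective_of_mem hα) (by
    rintro _ ⟨x, rfl⟩
    exact sc_map_mem d.sc_U hα x.2) le_rfl
  set A := toIso d.F hα hαr
  have hA : A ∈ d.F.autGroup d.U := toIso_mem_autGroup d.F hα hαr
  have hv : ∀ x : P, restr hle g x ∈ d.U := map_mem_S d.gen hφ₀
  let χ : P →* Ω := α.comp ((restr hle g).codRestrict d.U hv)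
  have hχ : χ ∈ d.F.Hom P := d.F.comp_mem (d.gen_sub _ hφ₀) hα hv
  have hπ : ∀ x : P, d.π (χ x) = d.π (φ x) := by
    intro x
    rw [← hre x (d.π_mem_img hPS x.2)]
    have h1 := hge (Subgroup.inclusion hle x) (d.π_mem_img hPS x.2)
    have h2 : φ₀' ⟨d.π x, d.π_mem_img hPS x.2⟩ ∈ V := map_mem_S d.B hφ₀' _
    rw [hdec _ h2]
    refine ((hαe ⟨_, hv x⟩ (d.π_mem_img d.U_le (hv x))).symm).trans ?_
    rw [restr_apply]
    exact congrArg (fun w => ((α' w : V) : Ω')) (Subtype.ext h1.symm)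
  refine ⟨χ, hχ, ⟨A, hA, _, hφ₀, fun x => (autExt_of_mem A (hv x)).symm⟩, ?_, hπ⟩
  have : Finite φ.range := finite_of_le ‹Finite S› (range_le_S d.F hφ)
  refine range_eq_of_image_le (d.F.injective_of_mem hχ) ?_
    (Nat.card_congr (MonoidHom.ofInjective (d.F.injective_of_mem hφ)).toEquiv).ge
  rintro _ ⟨x, rfl⟩
  have h1 := (d.π_eq_iff (map_mem_S d.F hφ x) (map_mem_S d.F hχ x)).1 (hπ x).symm
  have h2 := φ.range.mul_mem ⟨x, rfl⟩ (d.Z_le_range hφ hZ h1)
  rwa [mul_inv_cancel_left] at h2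

/-- Every kernel element decomposes. -/
theorem decomp_K {P : Subgroup Ω} (hZ : d.Z ≤ P) (hP : P ≤ d.U) {k : MulAut P}
    (hk : k ∈ d.K P) : DecompIn (d.F.autGroup d.U) d.gen P (fun x => ((k x : P) : Ω)) := by
  have hPS := hP.trans d.U_le
  obtain ⟨R, hPR, hR⟩ := exists_fullyNormalized d.F hPS
  obtain ⟨φ, hφ, rfl⟩ := hPR
  obtain ⟨χ, hχ, hdec, hr, -⟩ := d.exists_decomp_same_image hZ hP hφ
  set c := toIso d.F hχ hr
  have hc : IsIso d.F c := toIso_isIso d.F hχ hr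
  have hk' := d.congr_mem_K hc hk
  have hRU : φ.range ≤ d.U := d.le_of_iso hc hP
  have hRS := hRU.trans d.U_le
  obtain ⟨s, hs, hsk⟩ : ∃ s ∈ S, ∀ y : φ.range, (MulAut.congr c k y : Ω) = s * y * s⁻¹ := by
    obtain ⟨ξ, hξ, h⟩ := exists_conj_le_autInducedBy (saturated_fullyNormalized d.hS d.hF hR).2
      (d.isPGroup_K hRS) fun a ha => ha.1
    have h1 := d.conj_mem_K hRS ((d.F.autGroup _).inv_mem hξ) hk'
    have h2 := h _ h1
    rw [inv_inv, show ξ * (ξ⁻¹ * MulAut.congr c k * ξ) * ξ⁻¹ = MulAut.congr c k by group] at h2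
    exact mem_autInducedBy.1 h2
  have hsU : s ∈ Subgroup.normalizer (d.U : Set Ω) := sc_le_normalizer d.sc_U hs
  set A := d.U.normalizerMonoidHom ⟨s, hsU⟩
  have hA : A ∈ d.F.autGroup d.U :=
    autInducedBy_le_autGroup d.F d.U_le (mem_autInducedBy.2 ⟨s, hs, fun _ => rfl⟩)
  have hd₀ : DecompIn (d.F.autGroup d.U) d.gen φ.range
      (fun y => ((MulAut.congr c k y : φ.range) : Ω)) :=
    ⟨A, hA, _, subtype_mem d.gen hRU, fun y => by
      rw [autExt_of_mem A (show (φ.range.subtype y : Ω) ∈ d.U from hRU y.2)]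
      exact hsk y⟩
  have hdc : DecompIn (d.F.autGroup d.U) d.gen P (fun x => ((c x : φ.range) : Ω)) := hdec
  have hdci := decompIn_symm le_rfl d.gen_invT c hdc
  have h1 := decompIn_comp le_rfl d.gen_invT hdc hd₀ fun x => (c x).2
  have h2 := decompIn_comp le_rfl d.gen_invT h1 hdci fun x => (MulAut.congr c k _).2
  obtain ⟨α, hα, e, he, hee⟩ := h2
  refine ⟨α, hα, e, he, fun x => Eq.trans ?_ (hee x)⟩
  show ((k x : P) : Ω) = ((c.symm (c (k (c.symm (c x)))) : P) : Ω)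
  rw [MulEquiv.symm_apply_apply, MulEquiv.symm_apply_apply]

theorem gen_frattini {P : Subgroup Ω} (hP : P ≤ d.U) {φ : P →* Ω} (hφ : φ ∈ d.F.Hom P) :
    DecompIn (d.F.autGroup d.U) d.gen P φ := by
  obtain ⟨ψ, hψ, hψe, -⟩ := d.hZ.2 P φ hφ
  have hX : P ⊔ d.Z ≤ d.U := sup_le hP d.Z_le_U
  obtain ⟨χ, hχ, hdec, hr, hπ⟩ := d.exists_decomp_same_image le_sup_right hX hψ
  set c := toIso d.F hχ hr
  set e := toIso d.F hψ rfl
  set k : MulAut ↥(P ⊔ d.Z) := e.trans c.symm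
  have hXS := hX.trans d.U_le
  have hk : k ∈ d.K (P ⊔ d.Z) := by
    refine ⟨(mem_autGroup d.F hXS).2 ((toIso_isIso d.F hψ rfl).trans (toIso_isIso d.F hχ hr).symm),
      fun x => ?_⟩
    obtain ⟨φ', hφ', hre⟩ := d.exists_E_map hχ
    have h1 : χ (k x) = ψ x :=
      congrArg Subtype.val (c.apply_symm_apply (e x))
    have h2 := hπ x
    rw [← h1, ← hre (k x) (d.π_mem_img hXS (k x).2), ← hre x (d.π_mem_img hXS x.2)] at h2
    exact (congrArg Subtype.val (d.E.injective_of_mem hφ' h2)).symm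
  obtain ⟨α, hα, φ₀, hφ₀, he⟩ := decompIn_comp le_rfl d.gen_invT (d.decomp_K le_sup_right hX hk)
    (show DecompIn (d.F.autGroup d.U) d.gen _ (fun x => χ x) from hdec) fun x => (k x).2
  refine ⟨α, hα, restr le_sup_left φ₀, restr_mem d.gen le_sup_left hφ₀, fun x => ?_⟩
  refine Eq.trans ?_ (he (Subgroup.inclusion le_sup_left x))
  show φ x = χ (k (Subgroup.inclusion le_sup_left x))
  rw [show χ (k (Subgroup.inclusion le_sup_left x)) = ψ (Subgroup.inclusion le_sup_left x) from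
    congrArg Subtype.val (c.apply_symm_apply (e _))]
  exact (hψe x).symm

theorem gen_invariant : d.gen.IsInvariantIn d.F := by
  refine ⟨d.gen_sub, d.sc_U, fun P hPT φ hφ α hα => ?_, fun P hP φ hφ => ?_⟩
  · obtain ⟨χ, hχ, he⟩ := d.gen_invT α hα P φ hφ
    refine ⟨χ, hχ, fun x hφx hαx => ?_⟩
    have e : (⟨_, hαx⟩ : autImage α P) = ⟨autExt α x, autExt_mem_autImage α hPT x.2⟩ :=
      Subtype.ext (autExt_of_mem α (hPT x.2)).symm
    rw [e, he, autExt_of_mem α hφx]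
  · obtain ⟨α, hα, φ₀, hφ₀, he⟩ := d.gen_frattini hP hφ
    exact ⟨α, hα, φ₀, hφ₀, fun x hx => (he x).trans (autExt_of_mem α hx)⟩

/-- The extension condition. -/
theorem gen_ext {α : MulAut d.U} (hα : α ∈ d.gen.autGroup d.U) :
    ∃ β ∈ d.F.autGroup (d.U ⊔ centralizerIn S d.U),
      (∀ x : d.U, (β (Subgroup.inclusion le_sup_left x) : Ω) = (α x : d.U)) ∧
      ∀ c : ↥(d.U ⊔ centralizerIn S d.U), (c : Ω) ∈ centralizerIn S d.U →
        (c : Ω)⁻¹ * (β c : Ω) ∈ d.U ⊓ Subgroup.centralizer (d.U : Set Ω) := by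
  have := d.finite_S'
  have := d.finite_U
  have := d.finite_V
  have hUS := d.U_le
  set W := d.U ⊔ centralizerIn S d.U
  have hWS : W ≤ S := sup_le hUS (centralizerIn_le _)
  have : Finite W := finite_of_le ‹Finite S› hWS
  have himgU : d.img d.U = V := d.img_pre d.V_le
  have hUc : d.Hc d.U := ⟨d.Z_le_U, le_rfl,
    himgU.symm ▸ tCentric_of_centric d.inv_B (Cfsg.Agent.FusionBatch.isCentric_self d.pgroup_V d.saturated_B)⟩
  have ht : TFN d.F d.U d.U := ⟨le_rfl, fun R hR => by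
    rw [eq_of_le_of_card_le (by
      obtain ⟨φ, hφ, rfl⟩ := hR
      rintro _ ⟨x, rfl⟩
      exact sc_map_mem d.sc_U hφ x.2) (isConj_card_eq hR).le]⟩
  have hC : ∀ {γ : W →* Ω}, γ ∈ d.F.Hom W → ∀ c : W, (c : Ω) ∈ centralizerIn S d.U →
      γ c ∈ centralizerIn S d.U := by
    intro γ hγ c hc
    have hr : (restr (le_sup_left : d.U ≤ W) γ).range = d.U :=
      range_eq_of_image_le (d.F.injective_of_mem (restr_mem d.F _ hγ)) (by
        rintro _ ⟨x, rfl⟩
        exact sc_map_mem d.sc_U hγ (x := Subgroup.inclusion le_sup_left x) x.2) le_rfl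
    refine ⟨map_mem_S d.F hγ c, Subgroup.mem_centralizer_iff.2 fun u hu => ?_⟩
    obtain ⟨x, rfl⟩ := hr.ge hu
    rw [restr_apply, ← map_mul, ← map_mul]
    exact congrArg γ (Subtype.ext (Subgroup.mem_centralizer_iff.1 hc.2 x x.2))
  let good : Subgroup (MulAut d.U) :=
    { carrier := {a | ∃ β ∈ d.F.autGroup W,
        (∀ x : d.U, (β (Subgroup.inclusion le_sup_left x) : Ω) = (a x : d.U)) ∧
        ∀ c : W, (c : Ω) ∈ centralizerIn S d.U →
          (c : Ω)⁻¹ * (β c : Ω) ∈ d.U ⊓ Subgroup.centralizer (d.U : Set Ω)}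
      one_mem' := ⟨1, one_mem _, fun _ => rfl, fun c _ => by
        show (c : Ω)⁻¹ * c ∈ _
        rw [inv_mul_cancel]; exact one_mem _⟩
      mul_mem' := by
        rintro a a' ⟨β, hβ, h1, h2⟩ ⟨β', hβ', h1', h2'⟩
        refine ⟨β * β', mul_mem hβ hβ', fun x => ?_, fun c hc => ?_⟩
        · rw [MulAut.mul_apply, MulAut.mul_apply, ← h1 (a' x)]
          exact congrArg (fun w => ((β w : W) : Ω)) (Subtype.ext (h1' x))
        · have := (d.U ⊓ Subgroup.centralizer (d.U : Set Ω)).mul_mem (h2' c hc)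
            (h2 (β' c) (hC (autGroup_mem_hom d.F hWS hβ') c hc))
          simpa [mul_assoc] using this
      inv_mem' := by
        rintro a ⟨β, hβ, h1, h2⟩
        refine ⟨β⁻¹, (d.F.autGroup W).inv_mem hβ, fun x => ?_, fun c hc => ?_⟩
        · have e : β (Subgroup.inclusion le_sup_left (a⁻¹ x)) = Subgroup.inclusion le_sup_left x :=
            Subtype.ext ((h1 _).trans (congrArg Subtype.val (a.apply_symm_apply x)))
          rw [← e, MulAut.inv_def, MulEquiv.symm_apply_apply]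
          rfl
        · have h3 := (d.U ⊓ Subgroup.centralizer (d.U : Set Ω)).inv_mem
            (h2 (β⁻¹ c) (hC (autGroup_mem_hom d.F hWS ((d.F.autGroup W).inv_mem hβ)) c hc))
          rw [show β (β⁻¹ c) = c from β.apply_symm_apply c] at h3
          simpa using h3 }
  have hinn : ∀ u : d.U, MulAut.conj u ∈ good := by
    intro u
    refine ⟨MulAut.conj (Subgroup.inclusion le_sup_left u),
      inn_le_autGroup d.F hWS ⟨_, rfl⟩, fun x => rfl, fun c hc => ?_⟩
    show (c : Ω)⁻¹ * ((u : Ω) * c * (u : Ω)⁻¹) ∈ _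
    rw [Subgroup.mem_centralizer_iff.1 hc.2 u u.2, mul_inv_cancel_right, inv_mul_cancel]
    exact one_mem _
  suffices hgood : d.loc d.U ≤ good from hgood ((d.gen_aut_eq_loc hUc ht).le hα)
  refine sup_le ?_ ((Subgroup.closure_le _).2 ?_)
  · rw [← inn_eq_autInducedBy]
    rintro _ ⟨u, rfl⟩
    exact hinn u
  clear hα α
  intro a ha
  obtain ⟨haF, b, hb, hab⟩ := (d.mem_pull_aut le_rfl).1 ha.1
  have hbV : MulAut.congr (MulEquiv.subgroupCongr himgU) b ∈ d.B.autGroup V :=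
    autCongr_mem d.B (mem_hom_congr d.B (subtype_mem d.B himgU.le) fun _ => rfl) hb
  obtain ⟨β', hβ', hβV, hβC⟩ := d.hB.2 _ hbV
  have hW'S : (V ⊔ centralizerIn S' V) ≤ S' := sup_le d.V_le (centralizerIn_le V)
  set W₀ := d.pre (V ⊔ centralizerIn S' V)
  have hW₀S : W₀ ≤ S := d.pre_le (V ⊔ centralizerIn S' V)
  have : Finite W₀ := finite_of_le ‹Finite S› hW₀S
  obtain ⟨γ, hγ, hγe⟩ := d.exists_lift (d.Z_le_pre (V ⊔ centralizerIn S' V)) hW₀S
    (restr_mem d.E (d.img_pre hW'S).le (autGroup_mem_hom d.E hW'S hβ'))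
  have hγval : ∀ x : W₀, d.π (γ x) = (β' ⟨d.π x, (d.mem_pre.1 x.2).2⟩ : Ω') := fun x =>
    (hγe x (d.π_mem_img hW₀S x.2)).symm
  have hγr : γ.range = W₀ := range_eq_of_image_le (d.F.injective_of_mem hγ) (by
    rintro _ ⟨x, rfl⟩
    exact d.mem_pre.2 ⟨map_mem_S d.F hγ x, hγval x ▸ Subtype.mem _⟩) le_rfl
  set G := toIso d.F hγ hγr
  have hGval : ∀ (i : ℕ) (x : W₀),
      d.π ((G ^ i) x : W₀) = ((β' ^ i) ⟨d.π x, (d.mem_pre.1 x.2).2⟩ : Ω') := by
    intro i
    induction i with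
    | zero => exact fun _ => rfl
    | succ i ih =>
      intro x
      rw [pow_succ', pow_succ', MulAut.mul_apply, MulAut.mul_apply]
      refine (hγval _).trans ?_
      exact congrArg (fun w => ((β' w : ↥(V ⊔ centralizerIn S' V)) : Ω')) (Subtype.ext (ih x))
  obtain ⟨m, hm, hmo⟩ := exists_pprime_pow G ha.2
  have hdisp : ∀ (i : ℕ) (y : ↥(V ⊔ centralizerIn S' V)), (y : Ω') ∈ centralizerIn S' V →
      ((β' ^ i) y : Ω') ∈ centralizerIn S' V ∧ (y : Ω')⁻¹ * ((β' ^ i) y : Ω') ∈ V := by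
    intro i
    induction i with
    | zero => exact fun y hy => ⟨hy, by simp⟩
    | succ i ih =>
      intro y hy
      obtain ⟨h1, h2⟩ := ih y hy
      rw [pow_succ', MulAut.mul_apply]
      have h3 := hβC _ h1
      refine ⟨?_, ?_⟩
      · have := mul_mem h1.2 h3.2
        rw [mul_inv_cancel_left] at this
        exact ⟨hW'S (Subtype.mem _), this⟩
      · have := V.mul_mem h2 h3.1
        simpa [mul_assoc] using this
  have hπC : ∀ c ∈ centralizerIn S d.U, d.π c ∈ centralizerIn S' V := by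
    intro c hc
    refine ⟨d.π_mem hc.1, Subgroup.mem_centralizer_iff.2 fun v hv => ?_⟩
    obtain ⟨u, hu, huv⟩ := d.π_surj (d.V_le hv)
    have huU : u ∈ d.U := d.mem_U.2 ⟨hu, huv.symm ▸ hv⟩
    rw [← huv, ← d.π_mul hu hc.1, ← d.π_mul hc.1 hu, Subgroup.mem_centralizer_iff.1 hc.2 u huU]
  have hWW₀ : W ≤ W₀ := sup_le (fun u hu => d.mem_pre.2 ⟨hUS hu,
      Subgroup.mem_sup_left (d.mem_U.1 hu).2⟩)
    fun c hc => d.mem_pre.2 ⟨hc.1, Subgroup.mem_sup_right (hπC c hc)⟩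
  set Γ := G ^ m
  have hΓF : Γ ∈ d.F.autGroup W₀ := pow_mem (toIso_mem_autGroup d.F hγ hγr) m
  set γ₁ := restr hWW₀ (W₀.subtype.comp Γ.toMonoidHom)
  have hγ₁ : γ₁ ∈ d.F.Hom W := restr_mem d.F hWW₀ (autGroup_mem_hom d.F hW₀S hΓF)
  have hγ₁r : γ₁.range = W := range_eq_of_image_le (d.F.injective_of_mem hγ₁)
    (range_le_sup_of_le γ₁
      (fun x hx => Subgroup.mem_sup_left (sc_map_mem d.sc_U hγ₁ (x := ⟨x, _⟩) hx))
      fun x hx => Subgroup.mem_sup_right (hC hγ₁ ⟨x, _⟩ hx)) le_rfl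
  set δ := toIso d.F hγ₁ hγ₁r
  have hδ : δ ∈ d.F.autGroup W := toIso_mem_autGroup d.F hγ₁ hγ₁r
  have hUW₀ : d.U ≤ W₀ := (le_sup_left : d.U ≤ W).trans hWW₀
  have hr₁ : (restr hUW₀ (W₀.subtype.comp Γ.toMonoidHom)).range = d.U :=
    range_eq_of_image_le (d.F.injective_of_mem (restr_mem d.F hUW₀ (autGroup_mem_hom d.F hW₀S hΓF)))
      (by
        rintro _ ⟨x, rfl⟩
        exact sc_map_mem d.sc_U (autGroup_mem_hom d.F hW₀S hΓF)
          (x := Subgroup.inclusion hUW₀ x) x.2) le_rfl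
  set a₁ := toIso d.F (restr_mem d.F hUW₀ (autGroup_mem_hom d.F hW₀S hΓF)) hr₁
  have hbm : b ^ m = b := by
    have hbo : orderOf b ∣ orderOf a := by
      refine orderOf_dvd_of_pow_eq_one ?_
      have h := hab.pow hUS (orderOf a)
      rw [pow_orderOf_eq_one] at h
      exact h.unique hUS Over.one
    conv_rhs => rw [← pow_one b]
    exact pow_eq_pow_iff_modEq.2 (hm.of_dvd hbo)
  have hβb : ∀ (i : ℕ) (y : d.img d.U), ((β' ^ i) ⟨(y : Ω'), Subgroup.mem_sup_left (himgU.le y.2)⟩ :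
      Ω') = ((b ^ i) y : d.img d.U) := by
    intro i
    induction i with
    | zero => exact fun _ => rfl
    | succ i ih =>
      intro y
      rw [pow_succ', pow_succ', MulAut.mul_apply, MulAut.mul_apply]
      refine Eq.trans (congrArg (fun w => ((β' w : ↥(V ⊔ centralizerIn S' V)) : Ω')) (Subtype.ext (ih y) :
        _ = (⟨(((b ^ i) y : d.img d.U) : Ω'), Subgroup.mem_sup_left
          (himgU.le (Subtype.mem _))⟩ : ↥(V ⊔ centralizerIn S' V)))) ?_
      exact hβV ⟨_, himgU.le ((b ^ i) y).2⟩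
  have ha₁b : d.Over a₁ b := fun x h => by
    show _ = d.π ((G ^ m) (Subgroup.inclusion hUW₀ x) : W₀)
    rw [hGval]
    conv_lhs => rw [← hbm]
    exact (hβb m ⟨d.π x, h⟩).symm
  have ha₁F : a₁ ∈ d.F.autGroup d.U := toIso_mem_autGroup d.F _ hr₁
  have ha₁o : Nat.Coprime (orderOf a₁) p := by
    refine Nat.Coprime.coprime_dvd_left (orderOf_dvd_of_pow_eq_one ?_) hmo
    have h0 : ∀ (i : ℕ) (y : d.U), ((Γ ^ i) (Subgroup.inclusion hUW₀ y) : Ω) = (a₁ ^ i) y := by
      intro i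
      induction i with
      | zero => exact fun _ => rfl
      | succ i ih =>
        intro y
        rw [pow_succ', pow_succ', MulAut.mul_apply, MulAut.mul_apply]
        exact congrArg (fun w => ((Γ w : W₀) : Ω)) (Subtype.ext (ih y) :
          (Γ ^ i) (Subgroup.inclusion hUW₀ y) = Subgroup.inclusion hUW₀ ((a₁ ^ i) y))
    refine MulEquiv.ext fun y => Subtype.ext ?_
    rw [← h0]
    change ((((G ^ m) ^ orderOf (G ^ m)) _ : W₀) : Ω) = _
    rw [pow_orderOf_eq_one]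
    rfl
  -- `a` and `a₁` differ by an inner automorphism
  have hk := ha₁b.mem_K hUS ha₁F haF hab
  haveI := inn_normal d.U
  set q := QuotientGroup.mk' (Inn d.U)
  have hcomm : Commute (q a₁) (q (a₁⁻¹ * a)) := commInn_iff.1
    (d.ck_of_hc hUc a₁ ((d.mem_pull_aut le_rfl).2 ⟨ha₁F, b, hb, ha₁b⟩) _ hk)
  obtain ⟨i, hi⟩ := d.isPGroup_K hUS ⟨_, hk⟩
  have h1 : q (a₁⁻¹ * a) ^ (orderOf a₁ * orderOf a) = 1 := by
    have h2 : q a ^ (orderOf a₁ * orderOf a) = 1 := by
      rw [← map_pow, pow_mul', pow_orderOf_eq_one, one_pow, map_one]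
    have h3 : q a₁ ^ (orderOf a₁ * orderOf a) = 1 := by
      rw [← map_pow, pow_mul, pow_orderOf_eq_one, one_pow, map_one]
    have e : q a = q a₁ * q (a₁⁻¹ * a) := by rw [← map_mul, mul_inv_cancel_left]
    rw [e, hcomm.mul_pow, h3, one_mul] at h2
    exact h2
  have h2 : q (a₁⁻¹ * a) ^ p ^ i = 1 := by
    rw [← map_pow, show (a₁⁻¹ * a) ^ p ^ i = 1 from congrArg Subtype.val hi, map_one]
  obtain ⟨z, hz⟩ := (QuotientGroup.eq_one_iff _).1
    (coprime_trivial (Nat.Coprime.mul_left ha₁o ha.2) h1 h2)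
  have hae : a = a₁ * MulAut.conj z := by rw [hz, mul_inv_cancel_left]
  rw [hae]
  refine good.mul_mem ⟨δ, hδ, fun x => rfl, fun c hc => ?_⟩ (hinn z)
  have hδc := hC hγ₁ c hc
  refine ⟨d.mem_U.2 ⟨S.mul_mem (S.inv_mem hc.1) hδc.1, ?_⟩,
    mul_mem (Subgroup.inv_mem _ hc.2) hδc.2⟩
  show d.π ((c : Ω)⁻¹ * ((G ^ m) (Subgroup.inclusion hWW₀ c) : W₀)) ∈ V
  rw [d.π_mul (S.inv_mem hc.1) (hW₀S (Subtype.mem _)), d.π_inv hc.1, hGval]
  exact (hdisp m ⟨d.π c, _⟩ (hπC c hc)).2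

/-- The generated system is a normal subsystem of `F`. -/
theorem gen_normal : d.gen.IsNormalIn d.F p :=
  ⟨⟨d.gen_saturated, d.hF, d.gen_invariant⟩, fun _ hα => d.gen_ext hα⟩

/-- Pullback of a normal subsystem of a central factor system. -/
theorem exists_normal_pullback :
    ∃ D : FusionSystem d.U, D.IsNormalIn d.F p ∧
      ∀ (P : Subgroup Ω) (φ : P →* Ω), φ ∈ D.Hom P →
        ∃ φ' ∈ d.B.Hom (d.img P), ∀ (x : P) (h : d.π x ∈ d.img P), φ' ⟨d.π x, h⟩ = d.π (φ x) :=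
  ⟨d.gen, d.gen_normal, fun _ _ h => h.1.2.2⟩

end Cfsg.Agent.FusionAlperin.CentralData
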