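import Cfsg.Agent.FusionAlperin.SurjImage
import Cfsg.Agent.FusionAlperin.MinimalNormal
import Cfsg.Agent.FusionAux.FactorAut

/-!
A saturated system `F`, a central subgroup `Z`, the factor system `E` and a normal subsystem `B`
of `E` over `V`: dictionary between subgroups of `S` containing `Z` and subgroups of `S'`.
-/

set_option autoImplicit false
set_option linter.unusedSectionVars false

open Cfsg Cfsg.FusionSystem
open Cfsg.Agent.FusionSys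

namespace Cfsg.Agent.FusionAlperin

/-- The data of a normal subsystem of a central factor system. -/
structure CentralData {Ω : Type*} [Group Ω] {Ω' : Type*} [Group Ω'] (S : Subgroup Ω)
    (S' V : Subgroup Ω') (p : ℕ) where
  F : FusionSystem S
  E : FusionSystem S'
  B : FusionSystem V
  Z : Subgroup Ω
  θ : S →* Ω'
  hS : IsPGroup p S
  hF : F.IsSaturated p
  hZ : F.IsCentral Z
  hE : F.IsFactorSystem Z θ E
  hB : B.IsNormalIn E p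

namespace CentralData

variable {Ω : Type*} [Group Ω] {Ω' : Type*} [Group Ω'] {S : Subgroup Ω} {S' V : Subgroup Ω'}
  {p : ℕ} (d : CentralData S S' V p)

open scoped Classical in
/-- `θ`, extended to all of `Ω`. -/
noncomputable def π (x : Ω) : Ω' := if h : x ∈ S then d.θ ⟨x, h⟩ else 1

theorem π_eq {x : Ω} (h : x ∈ S) : d.π x = d.θ ⟨x, h⟩ := dif_pos h

theorem π_mul {x y : Ω} (hx : x ∈ S) (hy : y ∈ S) : d.π (x * y) = d.π x * d.π y := by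
  rw [d.π_eq hx, d.π_eq hy, d.π_eq (S.mul_mem hx hy), ← map_mul]
  rfl

theorem π_inv {x : Ω} (hx : x ∈ S) : d.π x⁻¹ = (d.π x)⁻¹ := by
  rw [d.π_eq hx, d.π_eq (S.inv_mem hx), ← map_inv]
  rfl

theorem π_one : d.π 1 = 1 := by
  rw [d.π_eq S.one_mem]
  exact map_one d.θ

theorem π_conj {g x : Ω} (hg : g ∈ S) (hx : x ∈ S) :
    d.π (g * x * g⁻¹) = d.π g * d.π x * (d.π g)⁻¹ := by
  rw [d.π_mul (S.mul_mem hg hx) (S.inv_mem hg), d.π_mul hg hx, d.π_inv hg]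

theorem π_eq_one_iff {x : Ω} (hx : x ∈ S) : d.π x = 1 ↔ x ∈ d.Z := by
  rw [d.π_eq hx]
  exact d.hE.2.1 _

theorem π_eq_iff {x y : Ω} (hx : x ∈ S) (hy : y ∈ S) : d.π x = d.π y ↔ x⁻¹ * y ∈ d.Z := by
  rw [← d.π_eq_one_iff (S.mul_mem (S.inv_mem hx) hy), d.π_mul (S.inv_mem hx) hy, d.π_inv hx,
    inv_mul_eq_one]

theorem π_mem {x : Ω} (hx : x ∈ S) : d.π x ∈ S' := by
  rw [d.π_eq hx]
  exact d.hE.2.2.1.le ⟨_, rfl⟩

theorem π_surj {y : Ω'} (hy : y ∈ S') : ∃ x ∈ S, d.π x = y := by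
  obtain ⟨s, rfl⟩ := d.hE.2.2.1.ge hy
  exact ⟨s, s.2, d.π_eq s.2⟩

theorem Z_le : d.Z ≤ S := d.hE.1

/-- The image of a subgroup. -/
def img (Q : Subgroup Ω) : Subgroup Ω' := imageAlong d.θ Q

/-- The preimage of a subgroup. -/
def pre (P' : Subgroup Ω') : Subgroup Ω := preimageAlong d.θ P'

/-- The group of the pullback system. -/
def U : Subgroup Ω := d.pre V

theorem mem_img {Q : Subgroup Ω} (hQ : Q ≤ S) {y : Ω'} :
    y ∈ d.img Q ↔ ∃ x ∈ Q, d.π x = y := by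
  constructor
  · intro hy
    obtain ⟨x, hx⟩ := imageAlong_exists (θ := d.θ) hQ ⟨y, hy⟩
    exact ⟨x, x.2, (d.π_eq (hQ x.2)).trans hx⟩
  · rintro ⟨x, hx, rfl⟩
    rw [d.π_eq (hQ hx)]
    exact theta_mem_imageAlong hQ ⟨x, hx⟩

theorem π_mem_img {Q : Subgroup Ω} (hQ : Q ≤ S) {x : Ω} (hx : x ∈ Q) : d.π x ∈ d.img Q :=
  (d.mem_img hQ).2 ⟨x, hx, rfl⟩

theorem img_le (Q : Subgroup Ω) : d.img Q ≤ S' :=
  (imageAlong_le_range (θ := d.θ) Q).trans d.hE.2.2.1.le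

theorem img_mono {Q R : Subgroup Ω} (h : Q ≤ R) : d.img Q ≤ d.img R :=
  Subgroup.map_mono (Subgroup.comap_mono h)

theorem mem_pre {P' : Subgroup Ω'} {x : Ω} : x ∈ d.pre P' ↔ x ∈ S ∧ d.π x ∈ P' := by
  rw [pre, mem_preimageAlong]
  exact ⟨fun ⟨h, h'⟩ => ⟨h, by rwa [d.π_eq h]⟩, fun ⟨h, h'⟩ => ⟨h, by rwa [d.π_eq h] at h'⟩⟩

theorem pre_le (P' : Subgroup Ω') : d.pre P' ≤ S := preimageAlong_le P'

theorem pre_mono {P' Q' : Subgroup Ω'} (h : P' ≤ Q') : d.pre P' ≤ d.pre Q' := preimageAlong_mono h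

theorem Z_le_pre (P' : Subgroup Ω') : d.Z ≤ d.pre P' :=
  ker_le_preimageAlong d.Z_le d.hE.2.1 P'

theorem pre_img {Q : Subgroup Ω} (hZ : d.Z ≤ Q) (hQ : Q ≤ S) : d.pre (d.img Q) = Q :=
  preimageAlong_imageAlong_eq hQ hZ d.hE.2.1

theorem img_pre {P' : Subgroup Ω'} (hP : P' ≤ S') : d.img (d.pre P') = P' :=
  imageAlong_preimageAlong (d.hE.2.2.1.symm ▸ hP)

theorem mem_of_π_mem {Q : Subgroup Ω} (hZ : d.Z ≤ Q) (hQ : Q ≤ S) {x : Ω} (hx : x ∈ S)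
    (h : d.π x ∈ d.img Q) : x ∈ Q := by
  rw [← d.pre_img hZ hQ]
  exact d.mem_pre.2 ⟨hx, h⟩

theorem mem_normalizer_img {Q : Subgroup Ω} (hQ : Q ≤ S) {g : Ω} (hg : g ∈ normalizerIn S Q) :
    d.π g ∈ Subgroup.normalizer (d.img Q : Set Ω') := by
  rw [Subgroup.mem_normalizer_iff]
  intro y
  constructor
  · intro hy
    obtain ⟨x, hx, rfl⟩ := (d.mem_img hQ).1 hy
    rw [← d.π_conj hg.1 (hQ hx)]
    exact d.π_mem_img hQ ((Subgroup.mem_normalizer_iff.1 hg.2 x).1 hx)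
  · intro hy
    obtain ⟨x, hx, hxe⟩ := (d.mem_img hQ).1 hy
    refine (d.mem_img hQ).2 ⟨g⁻¹ * x * g, ?_, ?_⟩
    · have := (Subgroup.mem_normalizer_iff.1 hg.2 (g⁻¹ * x * g)).2
        (by simpa [mul_assoc] using hx)
      exact this
    · rw [d.π_mul (S.mul_mem (S.inv_mem hg.1) (hQ hx)) hg.1, d.π_mul (S.inv_mem hg.1) (hQ hx),
        d.π_inv hg.1, hxe]
      group

theorem mem_normalizer_of_π {Q : Subgroup Ω} (hZ : d.Z ≤ Q) (hQ : Q ≤ S) {g : Ω} (hg : g ∈ S)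
    (h : d.π g ∈ Subgroup.normalizer (d.img Q : Set Ω')) : g ∈ normalizerIn S Q := by
  refine ⟨hg, Subgroup.mem_normalizer_iff.2 fun x => ⟨fun hx => ?_, fun hx => ?_⟩⟩
  · refine d.mem_of_π_mem hZ hQ (S.mul_mem (S.mul_mem hg (hQ hx)) (S.inv_mem hg)) ?_
    rw [d.π_conj hg (hQ hx)]
    exact (Subgroup.mem_normalizer_iff.1 h _).1 (d.π_mem_img hQ hx)
  · have hxS : x ∈ S := by
      have := S.mul_mem (S.mul_mem (S.inv_mem hg) (hQ hx)) hg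
      simpa [mul_assoc] using this
    refine d.mem_of_π_mem hZ hQ hxS ((Subgroup.mem_normalizer_iff.1 h _).2 ?_)
    rw [← d.π_conj hg hxS]
    exact d.π_mem_img hQ hx

/-! ### Automorphisms over automorphisms -/

/-- The automorphism `a` of `Q` induces `b` on the image. -/
def Over {Q : Subgroup Ω} (a : MulAut Q) (b : MulAut (d.img Q)) : Prop :=
  ∀ (x : Q) (h : d.π x ∈ d.img Q), (b ⟨d.π x, h⟩ : Ω') = d.π (a x : Q)

variable {d}

theorem Over.one {Q : Subgroup Ω} : d.Over (1 : MulAut Q) 1 := fun _ _ => rfl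

theorem Over.mul {Q : Subgroup Ω} (hQ : Q ≤ S) {a a' : MulAut Q} {b b' : MulAut (d.img Q)}
    (h : d.Over a b) (h' : d.Over a' b') : d.Over (a * a') (b * b') := by
  intro x hx
  rw [MulAut.mul_apply, MulAut.mul_apply, ← h (a' x) (d.π_mem_img hQ (a' x).2)]
  exact congrArg (fun w => ((b w : d.img Q) : Ω')) (Subtype.ext (h' x hx))

theorem Over.inv {Q : Subgroup Ω} (hQ : Q ≤ S) {a : MulAut Q} {b : MulAut (d.img Q)}
    (h : d.Over a b) : d.Over a⁻¹ b⁻¹ := by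
  intro x hx
  have h1 := h (a⁻¹ x) (d.π_mem_img hQ (a⁻¹ x).2)
  rw [show a (a⁻¹ x) = x from a.apply_symm_apply x] at h1
  have h2 : (⟨d.π x, hx⟩ : d.img Q) = b ⟨d.π (a⁻¹ x : Q), d.π_mem_img hQ (a⁻¹ x).2⟩ :=
    Subtype.ext h1.symm
  rw [h2, MulAut.inv_def, MulEquiv.symm_apply_apply]

theorem Over.pow {Q : Subgroup Ω} (hQ : Q ≤ S) {a : MulAut Q} {b : MulAut (d.img Q)}
    (h : d.Over a b) (n : ℕ) : d.Over (a ^ n) (b ^ n) := by
  induction n with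
  | zero => rw [pow_zero, pow_zero]; exact Over.one
  | succ n ih => rw [pow_succ, pow_succ]; exact ih.mul hQ h

theorem Over.unique {Q : Subgroup Ω} (hQ : Q ≤ S) {a : MulAut Q} {b b' : MulAut (d.img Q)}
    (h : d.Over a b) (h' : d.Over a b') : b = b' := by
  refine MulEquiv.ext fun y => ?_
  obtain ⟨x, hx, hxy⟩ := (d.mem_img hQ).1 y.2
  obtain rfl : y = ⟨d.π x, d.π_mem_img hQ hx⟩ := Subtype.ext hxy.symm
  exact Subtype.ext ((h ⟨x, hx⟩ _).trans (h' ⟨x, hx⟩ _).symm)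

theorem Over.conjNormal {Q : Subgroup Ω} (hQ : Q ≤ S) {g : Ω} (hg : g ∈ normalizerIn S Q) :
    d.Over (Q.normalizerMonoidHom ⟨g, hg.2⟩)
      ((d.img Q).normalizerMonoidHom ⟨d.π g, d.mem_normalizer_img hQ hg⟩) := fun x _ =>
  (d.π_conj hg.1 (hQ x.2)).symm

variable (d)

variable [Finite S] [Fact p.Prime]

theorem saturated_B : d.B.IsSaturated p := d.hB.1.1

theorem saturated_E : d.E.IsSaturated p := d.hB.1.2.1

theorem inv_B : d.B.IsInvariantIn d.E := d.hB.1.2.2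

theorem sc_V : d.E.StronglyClosed V := d.inv_B.2.1

include d in
theorem V_le : V ≤ S' := d.sc_V.1

theorem sc_Z : d.F.StronglyClosed d.Z := isNormal_stronglyClosed (isCentral_isNormal d.hZ)

include d in
theorem finite_S' : Finite S' :=
  d.hE.2.2.1 ▸ Finite.of_surjective _ d.θ.rangeRestrict_surjective

include d in
theorem pgroup_S' : IsPGroup p S' := by
  rintro ⟨y, hy⟩
  obtain ⟨s, rfl⟩ := d.hE.2.2.1.ge hy
  obtain ⟨k, hk⟩ := d.hS s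
  refine ⟨k, Subtype.ext ?_⟩
  show d.θ s ^ p ^ k = 1
  rw [← map_pow, hk, map_one]

include d in
theorem finite_V : Finite V := finite_of_le d.finite_S' d.V_le

include d in
theorem pgroup_V : IsPGroup p V := d.pgroup_S'.to_le d.V_le

/-- Maps of `F` fix the elements of `Z`. -/
theorem map_fix_Z {P : Subgroup Ω} {φ : P →* Ω} (hφ : φ ∈ d.F.Hom P) {x : P}
    (hx : (x : Ω) ∈ d.Z) : φ x = x := by
  obtain ⟨ψ, -, h1, h2⟩ := d.hZ.2 P φ hφ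
  have e : Subgroup.inclusion (le_sup_left : P ≤ P ⊔ d.Z) x =
      Subgroup.inclusion (le_sup_right : d.Z ≤ P ⊔ d.Z) ⟨(x : Ω), hx⟩ := Subtype.ext rfl
  rw [← h1 x, e, h2]

theorem aut_fix_Z {Q : Subgroup Ω} {a : MulAut Q} (hQ : Q ≤ S) (ha : a ∈ d.F.autGroup Q) {x : Q}
    (hx : (x : Ω) ∈ d.Z) : a x = x :=
  Subtype.ext (d.map_fix_Z (autGroup_mem_hom d.F hQ ha) hx)

theorem Z_comm {z x : Ω} (hz : z ∈ d.Z) (hx : x ∈ S) : x * z = z * x := by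
  have h : d.F.center ≤ Subgroup.centralizer (S : Set Ω) := d.F.center_le_centralizer
  exact Subgroup.mem_centralizer_iff.1 (h (le_sSup (s := {Q | d.F.IsCentral Q}) d.hZ hz)) x hx

/-- Every map of `F` induces a map of `E`. -/
theorem exists_E_map {P : Subgroup Ω} {φ : P →* Ω} (hφ : φ ∈ d.F.Hom P) :
    ∃ φ' ∈ d.E.Hom (d.img P), ∀ (x : P) (h : d.π x ∈ d.img P), φ' ⟨d.π x, h⟩ = d.π (φ x) := by
  obtain ⟨φ', hφ', hP, hφS, h3, he⟩ :=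
    (isSurjectiveMorphism_factor d.hS d.hF d.sc_Z d.hE).1.2 P φ hφ
  refine ⟨φ', hφ', fun x h => ?_⟩
  have e : (⟨d.π x, h⟩ : d.img P) = ⟨d.θ ⟨x, hP x.2⟩, h3 x⟩ := Subtype.ext (d.π_eq (hP x.2))
  rw [d.π_eq (hφS x), e]
  exact he x

/-- Every map of `E` lifts. -/
theorem exists_lift {Q : Subgroup Ω} (hZ : d.Z ≤ Q) (hQ : Q ≤ S) {φ' : d.img Q →* Ω'}
    (hφ' : φ' ∈ d.E.Hom (d.img Q)) :
    ∃ φ ∈ d.F.Hom Q, ∀ (x : Q) (h : d.π x ∈ d.img Q), φ' ⟨d.π x, h⟩ = d.π (φ x) := by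
  obtain ⟨-, φ, hφ, hP, hφS, h3, he⟩ := (d.hE.2.2.2 _ φ').1 hφ'
  have hle : Q ≤ preimageAlong d.θ (d.img Q) := (d.pre_img hZ hQ).ge
  refine ⟨restr hle φ, restr_mem d.F hle hφ, fun x h => ?_⟩
  have e : (⟨d.π x, h⟩ : d.img Q) = ⟨d.θ ⟨x, hP (hle x.2)⟩, h3 (Subgroup.inclusion hle x)⟩ :=
    Subtype.ext (d.π_eq (hQ x.2))
  rw [restr_apply, d.π_eq (hφS _), e]
  exact he (Subgroup.inclusion hle x)

theorem Z_le_range {P : Subgroup Ω} {φ : P →* Ω} (hφ : φ ∈ d.F.Hom P) (hZ : d.Z ≤ P) :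
    d.Z ≤ φ.range := fun z hz => ⟨⟨z, hZ hz⟩, d.map_fix_Z hφ (x := ⟨z, hZ hz⟩) hz⟩

theorem img_range {P : Subgroup Ω} {φ : P →* Ω} (hφ : φ ∈ d.F.Hom P) {φ' : d.img P →* Ω'}
    (h : ∀ (x : P) (hx : d.π x ∈ d.img P), φ' ⟨d.π x, hx⟩ = d.π (φ x)) :
    φ'.range = d.img φ.range := by
  ext y
  rw [d.mem_img (range_le_S d.F hφ)]
  constructor
  · rintro ⟨y', rfl⟩
    obtain ⟨x, hx, hxy⟩ := (d.mem_img (le_S d.F hφ)).1 y'.2
    exact ⟨φ ⟨x, hx⟩, ⟨_, rfl⟩, (h ⟨x, hx⟩ (hxy ▸ y'.2)).symm.trans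
      (congrArg φ' (Subtype.ext hxy))⟩
  · rintro ⟨_, ⟨x, rfl⟩, rfl⟩
    exact ⟨⟨d.π x, d.π_mem_img (le_S d.F hφ) x.2⟩, h x _⟩

/-- An automorphism in `F` induces one in `E`. -/
theorem exists_over {Q : Subgroup Ω} (hQ : Q ≤ S) {a : MulAut Q} (ha : a ∈ d.F.autGroup Q) :
    ∃ b ∈ d.E.autGroup (d.img Q), d.Over a b := by
  obtain ⟨φ', hφ', he⟩ := d.exists_E_map (autGroup_mem_hom d.F hQ ha)
  have hr : φ'.range = d.img Q := by
    rw [d.img_range (autGroup_mem_hom d.F hQ ha) he, range_subtype_comp]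
  exact ⟨toIso d.E hφ' hr, toIso_mem_autGroup d.E hφ' hr, fun x h => he x h⟩

/-- An automorphism in `E` lifts to one in `F`. -/
theorem exists_lift_aut {Q : Subgroup Ω} (hZ : d.Z ≤ Q) (hQ : Q ≤ S) {b : MulAut (d.img Q)}
    (hb : b ∈ d.E.autGroup (d.img Q)) : ∃ a ∈ d.F.autGroup Q, d.Over a b := by
  obtain ⟨φ, hφ, he⟩ := d.exists_lift hZ hQ (autGroup_mem_hom d.E (d.img_le Q) hb)
  have : Finite Q := finite_of_le ‹_› hQ
  have hr : φ.range = Q := range_eq_of_image_le (d.F.injective_of_mem hφ) (by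
    rintro _ ⟨x, rfl⟩
    refine d.mem_of_π_mem hZ hQ (map_mem_S d.F hφ x) ?_
    rw [← he x (d.π_mem_img hQ x.2)]
    exact Subtype.mem _) le_rfl
  exact ⟨toIso d.F hφ hr, toIso_mem_autGroup d.F hφ hr, fun x h => he x h⟩

/-- The automorphisms inducing the identity on the image. -/
def K (Q : Subgroup Ω) : Subgroup (MulAut Q) where
  carrier := {a | a ∈ d.F.autGroup Q ∧ ∀ x : Q, d.π (a x : Q) = d.π x}
  one_mem' := ⟨one_mem _, fun _ => rfl⟩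
  mul_mem' := fun {a b} ha hb => ⟨mul_mem ha.1 hb.1, fun x => (ha.2 (b x)).trans (hb.2 x)⟩
  inv_mem' := fun {a} ha => ⟨(d.F.autGroup Q).inv_mem ha.1, fun x => by
    have := ha.2 (a⁻¹ x)
    rw [show a (a⁻¹ x) = x from a.apply_symm_apply x] at this
    exact this.symm⟩

variable {d}

theorem Over.mem_K {Q : Subgroup Ω} (hQ : Q ≤ S) {a a' : MulAut Q} {b : MulAut (d.img Q)}
    (ha : a ∈ d.F.autGroup Q) (ha' : a' ∈ d.F.autGroup Q) (h : d.Over a b) (h' : d.Over a' b) :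
    a⁻¹ * a' ∈ d.K Q := by
  refine ⟨mul_mem ((d.F.autGroup Q).inv_mem ha) ha', fun x => ?_⟩
  have := (h.inv hQ).mul hQ h' x (d.π_mem_img hQ x.2)
  rw [inv_mul_cancel] at this
  exact this.symm

variable (d)

theorem over_one_of_mem_K {Q : Subgroup Ω} {a : MulAut Q} (ha : a ∈ d.K Q) :
    d.Over a 1 := fun x _ => (ha.2 x).symm

theorem conj_mem_K {Q : Subgroup Ω} (hQ : Q ≤ S) {a k : MulAut Q} (ha : a ∈ d.F.autGroup Q)
    (hk : k ∈ d.K Q) : a * k * a⁻¹ ∈ d.K Q := by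
  obtain ⟨b, -, hb⟩ := d.exists_over hQ ha
  refine ⟨mul_mem (mul_mem ha hk.1) ((d.F.autGroup Q).inv_mem ha), fun x => ?_⟩
  have h := (hb.mul hQ (d.over_one_of_mem_K hk)).mul hQ (hb.inv hQ) x (d.π_mem_img hQ x.2)
  rw [mul_one, mul_inv_cancel] at h
  exact h.symm

theorem K_comm {Q : Subgroup Ω} (hQ : Q ≤ S) {a b : MulAut Q} (ha : a ∈ d.K Q)
    (hb : b ∈ d.K Q) : a * b = b * a := by
  refine MulEquiv.ext fun x => ?_
  have hl : ((x⁻¹ * a x : Q) : Ω) ∈ d.Z := (d.π_eq_iff (hQ x.2) (hQ (a x).2)).1 (ha.2 x).symm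
  have hm : ((x⁻¹ * b x : Q) : Ω) ∈ d.Z := (d.π_eq_iff (hQ x.2) (hQ (b x).2)).1 (hb.2 x).symm
  show a (b x) = b (a x)
  have ea : a (b x) = a x * (x⁻¹ * b x) := by
    conv_lhs => rw [show b x = x * (x⁻¹ * b x) by group]
    rw [map_mul a x (x⁻¹ * b x), d.aut_fix_Z hQ ha.1 hm]
  have eb : b (a x) = b x * (x⁻¹ * a x) := by
    conv_lhs => rw [show a x = x * (x⁻¹ * a x) by group]
    rw [map_mul b x (x⁻¹ * a x), d.aut_fix_Z hQ hb.1 hl]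
  rw [ea, eb]
  refine Subtype.ext ?_
  show (a x : Ω) * ((x⁻¹ * b x : Q) : Ω) = (b x : Ω) * ((x⁻¹ * a x : Q) : Ω)
  have e := d.Z_comm hm (d.Z_le hl)
  have h1 : (a x : Ω) = (x : Ω) * ((x⁻¹ * a x : Q) : Ω) := by simp
  have h2 : (b x : Ω) = (x : Ω) * ((x⁻¹ * b x : Q) : Ω) := by simp
  rw [h1, mul_assoc, e, ← mul_assoc, ← h2]

theorem isPGroup_K {Q : Subgroup Ω} (hQ : Q ≤ S) : IsPGroup p (d.K Q) := by
  rintro ⟨a, ha⟩
  obtain ⟨i, hi⟩ := d.hS.exists_card_eq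
  refine ⟨i, Subtype.ext (MulEquiv.ext fun x => ?_)⟩
  have hl : ((x⁻¹ * a x : Q) : Ω) ∈ d.Z := (d.π_eq_iff (hQ x.2) (hQ (a x).2)).1 (ha.2 x).symm
  have hn : ∀ n : ℕ, (a ^ n) x = x * (x⁻¹ * a x) ^ n := by
    intro n
    induction n with
    | zero => simp
    | succ n ih =>
      rw [pow_succ', MulAut.mul_apply, ih, map_mul a x ((x⁻¹ * a x) ^ n), map_pow a _ n,
        d.aut_fix_Z hQ ha.1 hl, pow_succ', ← mul_assoc, ← mul_assoc, mul_inv_cancel, one_mul]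
  show (a ^ p ^ i) x = x
  rw [hn, show (x⁻¹ * a x) ^ p ^ i = 1 from ?_, mul_one]
  have h1 : (⟨_, d.Z_le hl⟩ : S) ^ p ^ i = 1 := by rw [← hi]; exact pow_card_eq_one'
  exact Subtype.ext (by simpa using congrArg Subtype.val h1)

/-- The full preimage of `B`: maps of `F` over `U` inducing maps of `B`. -/
def pull : FusionSystem d.U where
  Hom P := {φ | φ ∈ d.F.Hom P ∧ P ≤ d.U ∧ ∃ φ' ∈ d.B.Hom (d.img P),
    ∀ (x : P) (h : d.π x ∈ d.img P), φ' ⟨d.π x, h⟩ = d.π (φ x)}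
  le_of_mem := fun {P φ} ⟨hφ, hP, φ', hφ', he⟩ => ⟨hP, fun x => d.mem_pre.2
    ⟨map_mem_S d.F hφ x, he x (d.π_mem_img (le_S d.F hφ) x.2) ▸ map_mem_S d.B hφ' _⟩⟩
  injective_of_mem h := d.F.injective_of_mem h.1
  conj_mem := fun {P g} hP hg => by
    have hgS := d.pre_le V hg
    have hPS : P ≤ S := hP.trans (d.pre_le V)
    refine ⟨d.F.conj_mem hPS hgS, hP, _, d.B.conj_mem (g := d.π g) ?_ (d.mem_pre.1 hg).2,
      fun x h => (d.π_conj hgS (hPS x.2)).symm⟩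
    intro y hy
    obtain ⟨x, hx, rfl⟩ := (d.mem_img hPS).1 hy
    exact (d.mem_pre.1 (hP hx)).2
  comp_mem := by
    rintro P Q φ ψ ⟨hφ, hP, φ', hφ', he⟩ ⟨hψ, hQ, ψ', hψ', he'⟩ h
    have hv : ∀ y, φ' y ∈ d.img Q := by
      rintro ⟨y, hy⟩
      obtain ⟨x, hx, rfl⟩ := (d.mem_img (le_S d.F hφ)).1 hy
      exact (he ⟨x, hx⟩ hy).symm ▸ d.π_mem_img (le_S d.F hψ) (h ⟨x, hx⟩)
    refine ⟨d.F.comp_mem hφ hψ h, hP, _, d.B.comp_mem hφ' hψ' hv, fun x hx => ?_⟩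
    show ψ' ⟨φ' ⟨d.π x, hx⟩, hv _⟩ = d.π (ψ ⟨φ x, h x⟩)
    refine Eq.trans (congrArg ψ' (Subtype.ext ?_))
      (he' ⟨φ x, h x⟩ (d.π_mem_img (le_S d.F hψ) (h x)))
    exact he x hx
  inv_mem := by
    rintro P φ ⟨hφ, hP, φ', hφ', he⟩
    obtain ⟨ψ, hψ, hψe⟩ := d.F.inv_mem hφ
    obtain ⟨ψ', hψ', hψe'⟩ := d.B.inv_mem hφ'
    have hr := d.img_range hφ he
    refine ⟨ψ, ⟨hψ, ?_, restr hr.ge ψ', restr_mem d.B hr.ge hψ', ?_⟩, hψe⟩
    · rintro _ ⟨x, rfl⟩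
      exact d.mem_pre.2 ⟨map_mem_S d.F hφ x,
        he x (d.π_mem_img (le_S d.F hφ) x.2) ▸ map_mem_S d.B hφ' _⟩
    · rintro ⟨_, x, rfl⟩ hy
      rw [hψe x]
      refine Eq.trans ?_ (hψe' ⟨d.π x, d.π_mem_img (le_S d.F hφ) x.2⟩)
      exact congrArg ψ' (Subtype.ext (he x _).symm)

theorem pull_sub : d.pull.IsSubsystemOf d.F := fun _ _ h => h.1

theorem mem_pull_aut {Q : Subgroup Ω} (hQ : Q ≤ d.U) {a : MulAut Q} :
    a ∈ d.pull.autGroup Q ↔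
      a ∈ d.F.autGroup Q ∧ ∃ b ∈ d.B.autGroup (d.img Q), d.Over a b := by
  have hQS : Q ≤ S := hQ.trans (d.pre_le V)
  constructor
  · intro ha
    obtain ⟨haF, -, φ', hφ', he⟩ := autGroup_mem_hom d.pull hQ ha
    have hr : φ'.range = d.img Q := by rw [d.img_range haF he, range_subtype_comp]
    exact ⟨(mem_autGroup d.F hQS).2 haF, toIso d.B hφ' hr, toIso_mem_autGroup d.B hφ' hr,
      fun x h => he x h⟩
  · rintro ⟨ha, b, hb, he⟩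
    have hbV : d.img Q ≤ V := fun y hy => by
      obtain ⟨x, hx, rfl⟩ := (d.mem_img hQS).1 hy
      exact (d.mem_pre.1 (hQ hx)).2
    exact (mem_autGroup d.pull hQ).2
      ⟨autGroup_mem_hom d.F hQS ha, hQ, _, autGroup_mem_hom d.B hbV hb, fun x h => he x h⟩

theorem K_le_pull {Q : Subgroup Ω} (hQ : Q ≤ d.U) : d.K Q ≤ d.pull.autGroup Q := fun _ ha =>
  (d.mem_pull_aut hQ).2 ⟨ha.1, 1, one_mem _, d.over_one_of_mem_K ha⟩

end CentralData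

end Cfsg.Agent.FusionAlperin
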