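import Cfsg.Agent.FusionAlperin.Pullback.Basic

/-!
Centric subgroups of the pullback: transport along maps of `F`, normalizers and orders.
-/

set_option autoImplicit false
set_option linter.unusedSectionVars false

open Cfsg Cfsg.FusionSystem
open Cfsg.Agent.FusionSys

namespace Cfsg.Agent.FusionAlperin.CentralData

variable {Ω : Type*} [Group Ω] {Ω' : Type*} [Group Ω'] {S : Subgroup Ω} {S' V : Subgroup Ω'}
  {p : ℕ} (d : CentralData S S' V p) [Finite S] [Fact p.Prime]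

theorem U_le : d.U ≤ S := d.pre_le V

theorem Z_le_U : d.Z ≤ d.U := d.Z_le_pre V

theorem mem_U {x : Ω} : x ∈ d.U ↔ x ∈ S ∧ d.π x ∈ V := d.mem_pre

theorem finite_U : Finite d.U := finite_of_le ‹_› d.U_le

theorem sc_U : d.F.StronglyClosed d.U := by
  refine sc_of_elements d.U_le fun P φ hφ x hx => d.mem_U.2 ⟨map_mem_S d.F hφ x, ?_⟩
  obtain ⟨φ', hφ', he⟩ := d.exists_E_map hφ
  rw [← he x (d.π_mem_img (le_S d.F hφ) x.2)]
  exact sc_map_mem d.sc_V hφ' (d.mem_U.1 hx).2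

theorem img_le_V {Q : Subgroup Ω} (hQ : Q ≤ d.U) : d.img Q ≤ V := fun y hy => by
  obtain ⟨x, hx, rfl⟩ := (d.mem_img (hQ.trans d.U_le)).1 hy
  exact (d.mem_U.1 (hQ hx)).2

/-- The subgroups over the centric subgroups of `B`. -/
def Hc (Q : Subgroup Ω) : Prop := d.Z ≤ Q ∧ Q ≤ d.U ∧ TCentric d.E V (d.img Q)

variable {d}

theorem Hc.le_S {Q : Subgroup Ω} (h : d.Hc Q) : Q ≤ S := h.2.1.trans d.U_le

theorem Hc.centric {Q : Subgroup Ω} (h : d.Hc Q) : d.B.IsCentric (d.img Q) := by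
  refine ⟨h.2.2.1, ?_⟩
  rintro _ ⟨φ, hφ, rfl⟩
  exact h.2.2.2 _ ⟨φ, d.inv_B.1 _ hφ, rfl⟩

theorem Hc.mono {Q X : Subgroup Ω} (h : d.Hc Q) (hQX : Q ≤ X) (hX : X ≤ d.U) : d.Hc X :=
  ⟨h.1.trans hQX, hX, tCentric_mono h.2.2 (d.img_mono hQX) (d.img_le_V hX)⟩

/-- `C_U(Q) ≤ Q` modulo `Z`. -/
theorem Hc.mem_of_centralizes {Q : Subgroup Ω} (h : d.Hc Q) {u : Ω} (hu : u ∈ d.U)
    (hc : ∀ x ∈ Q, d.π u * d.π x = d.π x * d.π u) : u ∈ Q := by
  refine d.mem_of_π_mem h.1 h.le_S (d.U_le hu) ?_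
  refine h.2.2.2 _ (isConj_refl d.E (d.img_le Q)) ⟨(d.mem_U.1 hu).2, ?_⟩
  refine Subgroup.mem_centralizer_iff.2 fun y hy => ?_
  obtain ⟨x, hx, rfl⟩ := (d.mem_img h.le_S).1 hy
  exact (hc x hx).symm

theorem Hc.centralizer_le {Q : Subgroup Ω} (h : d.Hc Q) : centralizerIn d.U Q ≤ Q :=
  fun u hu => h.mem_of_centralizes hu.1 fun x hx => by
    rw [← d.π_mul (d.U_le hu.1) (h.le_S hx), ← d.π_mul (h.le_S hx) (d.U_le hu.1),
      Subgroup.mem_centralizer_iff.1 hu.2 x hx]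

variable (d)

theorem le_of_iso {Q R : Subgroup Ω} {e : Q ≃* R} (he : IsIso d.F e) (hQ : Q ≤ d.U) : R ≤ d.U := by
  intro y hy
  obtain ⟨x, hx⟩ := e.surjective ⟨y, hy⟩
  have h := sc_map_mem d.sc_U he (x := x) (hQ x.2)
  rw [← show (e x : Ω) = y from congrArg Subtype.val hx]
  exact h

/-- An isomorphism of `F` induces one of `E` on the images. -/
theorem exists_img_iso {Q R : Subgroup Ω} {e : Q ≃* R} (he : IsIso d.F e) :
    ∃ e' : d.img Q ≃* d.img R, IsIso d.E e' ∧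
      ∀ (x : Q) (h : d.π x ∈ d.img Q), (e' ⟨d.π x, h⟩ : Ω') = d.π (e x : R) := by
  obtain ⟨φ', hφ', hre⟩ := d.exists_E_map he
  have hr : φ'.range = d.img R := by rw [d.img_range he hre, range_subtype_comp]
  exact ⟨toIso d.E hφ' hr, toIso_isIso d.E hφ' hr, fun x h => hre x h⟩

variable {d}

theorem Over.congr {Q R : Subgroup Ω} (hQ : Q ≤ S) {e : Q ≃* R} {e' : d.img Q ≃* d.img R}
    (he : ∀ (x : Q) (h : d.π x ∈ d.img Q), (e' ⟨d.π x, h⟩ : Ω') = d.π (e x : R))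
    {a : MulAut Q} {b : MulAut (d.img Q)} (h : d.Over a b) :
    d.Over (MulAut.congr e a) (MulAut.congr e' b) := by
  intro y hy
  obtain ⟨x, rfl⟩ := e.surjective y
  have e1 : (⟨d.π (e x : R), hy⟩ : d.img R) = e' ⟨d.π x, d.π_mem_img hQ x.2⟩ :=
    Subtype.ext (he x _).symm
  rw [autCongr_apply, autCongr_apply, MulEquiv.symm_apply_apply, e1, MulEquiv.symm_apply_apply,
    ← he (a x) (d.π_mem_img hQ (a x).2)]
  exact congrArg (fun w => ((e' w : d.img R) : Ω')) (Subtype.ext (h x _))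

theorem Hc.congr {Q R : Subgroup Ω} (h : d.Hc Q) {e : Q ≃* R} (he : IsIso d.F e) : d.Hc R := by
  obtain ⟨e', he', -⟩ := d.exists_img_iso he
  refine ⟨?_, d.le_of_iso he h.2.1, tCentric_of_isConj d.sc_V h.2.2 he'.isConj⟩
  have := d.Z_le_range he h.1
  rwa [range_subtype_comp] at this

variable (d)

theorem congr_mem_pull {Q R : Subgroup Ω} (hQ : Q ≤ d.U) {e : Q ≃* R} (he : IsIso d.F e)
    {a : MulAut Q} (ha : a ∈ d.pull.autGroup Q) : MulAut.congr e a ∈ d.pull.autGroup R := by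
  obtain ⟨haF, b, hb, hab⟩ := (d.mem_pull_aut hQ).1 ha
  obtain ⟨e', he', hre⟩ := d.exists_img_iso he
  have := d.finite_S'
  exact (d.mem_pull_aut (d.le_of_iso he hQ)).2 ⟨autCongr_mem d.F he haF, _,
    autCongr_mem_of_invariant d.pgroup_S' d.saturated_E d.inv_B (d.img_le_V hQ) he' hb,
    hab.congr (hQ.trans d.U_le) hre⟩

theorem congr_mem_K {Q R : Subgroup Ω} {e : Q ≃* R} (he : IsIso d.F e) {a : MulAut Q}
    (ha : a ∈ d.K Q) : MulAut.congr e a ∈ d.K R := by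
  obtain ⟨e', -, hre⟩ := d.exists_img_iso he
  refine ⟨autCongr_mem d.F he ha.1, fun y => ?_⟩
  have h := (d.over_one_of_mem_K ha).congr he.le_left hre y (d.π_mem_img he.le_right y.2)
  rw [map_one] at h
  exact h.symm

omit [Finite S] [Fact p.Prime] in
theorem congr_mem_inn {Q R : Subgroup Ω} (e : Q ≃* R) {a : MulAut Q} (ha : a ∈ Inn Q) :
    MulAut.congr e a ∈ Inn R := by
  obtain ⟨q, rfl⟩ := ha
  refine ⟨e q, MulEquiv.ext fun y => ?_⟩
  obtain ⟨x, rfl⟩ := e.surjective y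
  rw [autCongr_apply, MulEquiv.symm_apply_apply, MulAut.conj_apply, MulAut.conj_apply, map_mul,
    map_mul, map_inv]

theorem normalizerU_eq {Q : Subgroup Ω} (hZ : d.Z ≤ Q) (hQ : Q ≤ S) :
    normalizerIn d.U Q = d.pre (normalizerIn V (d.img Q)) := by
  ext g
  rw [d.mem_pre, mem_normalizerIn, mem_normalizerIn, d.mem_U]
  constructor
  · rintro ⟨⟨hg, hgV⟩, hgN⟩
    exact ⟨hg, hgV, d.mem_normalizer_img hQ ⟨hg, hgN⟩⟩
  · rintro ⟨hg, hgV, hgN⟩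
    exact ⟨⟨hg, hgV⟩, (d.mem_normalizer_of_π hZ hQ hg hgN).2⟩

theorem normalizerS_eq {Q : Subgroup Ω} (hZ : d.Z ≤ Q) (hQ : Q ≤ S) :
    normalizerIn S Q = d.pre (normalizerIn S' (d.img Q)) := by
  ext g
  rw [d.mem_pre, mem_normalizerIn, mem_normalizerIn]
  constructor
  · rintro ⟨hg, hgN⟩
    exact ⟨hg, d.π_mem hg, d.mem_normalizer_img hQ ⟨hg, hgN⟩⟩
  · rintro ⟨hg, -, hgN⟩
    exact ⟨hg, (d.mem_normalizer_of_π hZ hQ hg hgN).2⟩

theorem card_pre {P' : Subgroup Ω'} (hP : P' ≤ S') :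
    Nat.card (d.pre P') = Nat.card P' * Nat.card d.Z := by
  let f : d.pre P' →* P' := MonoidHom.mk' (fun x => ⟨d.π x, (d.mem_pre.1 x.2).2⟩) fun a b =>
    Subtype.ext (d.π_mul (d.pre_le P' a.2) (d.pre_le P' b.2))
  have hf : Function.Surjective f := fun y => by
    obtain ⟨x, hx, hxy⟩ := d.π_surj (hP y.2)
    exact ⟨⟨x, d.mem_pre.2 ⟨hx, hxy.symm ▸ y.2⟩⟩, Subtype.ext hxy⟩
  have hk : f.ker = d.Z.subgroupOf (d.pre P') := by
    ext x
    rw [MonoidHom.mem_ker, Subgroup.mem_subgroupOf, ← d.π_eq_one_iff (d.pre_le P' x.2)]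
    exact ⟨fun h => congrArg Subtype.val h, fun h => Subtype.ext h⟩
  rw [Subgroup.card_eq_card_quotient_mul_card_subgroup f.ker,
    Nat.card_congr (QuotientGroup.quotientKerEquivOfSurjective f hf).toEquiv, hk,
    Nat.card_congr (Subgroup.subgroupOfEquivOfLe (d.Z_le_pre P')).toEquiv]

theorem card_Z_pos : 0 < Nat.card d.Z := by
  have := finite_of_le ‹Finite S› d.Z_le
  exact Nat.card_pos

/-- An image in `E` of an `F`-conjugate. -/
theorem isConj_img {Q R : Subgroup Ω} (h : d.F.IsConj Q R) : d.E.IsConj (d.img Q) (d.img R) := by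
  obtain ⟨e, he⟩ := (isConj_iff_exists_iso d.F).1 h
  obtain ⟨e', he', -⟩ := d.exists_img_iso he
  exact he'.isConj

/-- An `E`-conjugate of an image is the image of an `F`-conjugate. -/
theorem exists_conj_of_img {Q : Subgroup Ω} (hZ : d.Z ≤ Q) (hQ : Q ≤ S) {R' : Subgroup Ω'}
    (h : d.E.IsConj (d.img Q) R') : ∃ R, d.F.IsConj Q R ∧ d.Z ≤ R ∧ d.img R = R' := by
  obtain ⟨φ', hφ', rfl⟩ := h
  obtain ⟨φ, hφ, he⟩ := d.exists_lift hZ hQ hφ'
  exact ⟨φ.range, ⟨φ, hφ, rfl⟩, d.Z_le_range hφ hZ, (d.img_range hφ he).symm⟩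

theorem Z_le_of_isConj {Q R : Subgroup Ω} (h : d.F.IsConj Q R) (hZ : d.Z ≤ Q) : d.Z ≤ R := by
  obtain ⟨φ, hφ, rfl⟩ := h
  exact d.Z_le_range hφ hZ

theorem fullyNormalized_img {Q : Subgroup Ω} (hQ : d.F.IsFullyNormalized Q) (hZ : d.Z ≤ Q) :
    d.E.IsFullyNormalized (d.img Q) := by
  refine ⟨d.img_le Q, fun R' hR' => ?_⟩
  obtain ⟨R, hR, hZR, rfl⟩ := d.exists_conj_of_img hZ hQ.1 hR'
  have h := hQ.2 R hR
  rw [d.normalizerS_eq hZ hQ.1, d.normalizerS_eq hZR (isConj_le_right hR),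
    d.card_pre (normalizerIn_le _), d.card_pre (normalizerIn_le _)] at h
  exact Nat.le_of_mul_le_mul_right h d.card_Z_pos

theorem tfn_img {Q : Subgroup Ω} (hQ : TFN d.F d.U Q) (hZ : d.Z ≤ Q) :
    TFN d.E V (d.img Q) := by
  have hQS := hQ.1.trans d.U_le
  refine ⟨d.img_le_V hQ.1, fun R' hR' => ?_⟩
  obtain ⟨R, hR, hZR, rfl⟩ := d.exists_conj_of_img hZ hQS hR'
  have h := hQ.2 R hR
  rw [d.normalizerU_eq hZ hQS, d.normalizerU_eq hZR (isConj_le_right hR),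
    d.card_pre ((normalizerIn_le _).trans d.V_le),
    d.card_pre ((normalizerIn_le _).trans d.V_le)] at h
  exact Nat.le_of_mul_le_mul_right h d.card_Z_pos

theorem tfn_pre {R' : Subgroup Ω'} (hR : TFN d.E V R') : TFN d.F d.U (d.pre R') := by
  refine ⟨d.pre_mono hR.1, fun R hR' => ?_⟩
  have hRS := hR.1.trans d.V_le
  have hZR := d.Z_le_of_isConj hR' (d.Z_le_pre R')
  have h := hR.2 (d.img R) (d.img_pre hRS ▸ d.isConj_img hR')
  rw [d.normalizerU_eq hZR (isConj_le_right hR'), d.normalizerU_eq (d.Z_le_pre R') (d.pre_le R'),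
    d.img_pre hRS, d.card_pre ((normalizerIn_le _).trans d.V_le),
    d.card_pre ((normalizerIn_le _).trans d.V_le)]
  exact Nat.mul_le_mul_right _ h

theorem tfn_of_fn {Q : Subgroup Ω} (hQ : d.F.IsFullyNormalized Q) (hQU : Q ≤ d.U) :
    TFN d.F d.U Q :=
  tfn_of_fullyNormalized d.hS d.hF d.sc_U hQ hQU

theorem autU_le_pull {Q : Subgroup Ω} (hQ : Q ≤ d.U) :
    autInducedBy d.U Q ≤ d.pull.autGroup Q :=
  autInducedBy_le_autGroup d.pull hQ

/-- An element of the pullback trivial modulo `Z` on a centric subgroup is inner modulo `K`. -/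
theorem exists_inner_mul_K {Q X : Subgroup Ω} (hQ : d.Hc Q) (hQX : Q ≤ X) (hX : X ≤ d.U)
    {Ψ : MulAut X} (hΨ : Ψ ∈ d.pull.autGroup X)
    (h : ∀ x : X, (x : Ω) ∈ Q → d.π (Ψ x : X) = d.π x) :
    ∃ z : X, (z : Ω) ∈ Q ∧ (MulAut.conj z)⁻¹ * Ψ ∈ d.K X := by
  have hXS := hX.trans d.U_le
  obtain ⟨hΨF, b, hb, hab⟩ := (d.mem_pull_aut hX).1 hΨ
  have hXV := d.img_le_V hX
  have := d.finite_V
  obtain ⟨z', hzQ, -, hz⟩ := maps_agree_on_centric d.pgroup_V d.saturated_B (d.img_mono hQX)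
    hQ.centric (subtype_mem d.B hXV) (autGroup_mem_hom d.B hXV hb) fun y hy => by
      obtain ⟨x, hx, hxy⟩ := (d.mem_img hQ.le_S).1 hy
      have e : y = ⟨d.π x, d.π_mem_img hXS (hQX hx)⟩ := Subtype.ext hxy.symm
      show (y : Ω') = (b y : Ω')
      rw [e, hab ⟨x, hQX hx⟩, h ⟨x, hQX hx⟩ hx]
  obtain ⟨x₀, hx₀, hxz⟩ := (d.mem_img hQ.le_S).1 hzQ
  refine ⟨⟨x₀, hQX hx₀⟩, hx₀, mul_mem ((d.F.autGroup X).inv_mem
    (inn_le_autGroup d.F hXS ⟨_, rfl⟩)) hΨF, fun x => ?_⟩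
  show d.π ((x₀⁻¹ : Ω) * (Ψ x : X) * x₀) = d.π x
  rw [d.π_mul (S.mul_mem (S.inv_mem (hQ.le_S hx₀)) (hXS (Ψ x).2)) (hQ.le_S hx₀),
    d.π_mul (S.inv_mem (hQ.le_S hx₀)) (hXS (Ψ x).2), d.π_inv (hQ.le_S hx₀),
    ← hab x (d.π_mem_img hXS x.2)]
  have e := hz ⟨d.π x, d.π_mem_img hXS x.2⟩
  simp only [MonoidHom.coe_comp, Function.comp_apply, MulEquiv.coe_toMonoidHom,
    Subgroup.coe_subtype, Subgroup.coe_mul, InvMemClass.coe_inv] at e
  rw [e, hxz]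
  group

end Cfsg.Agent.FusionAlperin.CentralData
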