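import Cfsg.Agent.FusionAlperin.Pullback.Extend

/-!
Every map of `B` lifts to the generated system; its automizers at the representatives are the
local groups.
-/

set_option autoImplicit false
set_option linter.unusedSectionVars false

open Cfsg Cfsg.FusionSystem
open Cfsg.Agent.FusionSys

namespace Cfsg.Agent.FusionAlperin.CentralData

variable {Ω : Type*} [Group Ω] {Ω' : Type*} [Group Ω'] {S : Subgroup Ω} {S' V : Subgroup Ω'}
  {p : ℕ} (d : CentralData S S' V p) [Finite S] [Fact p.Prime]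

/-- The map `φ'` is induced by a map of the generated system on the preimage. -/
def Lifts (P' : Subgroup Ω') (φ' : P' →* Ω') : Prop :=
  ∃ φ ∈ d.gen.Hom (d.pre P'), ∀ (x : d.pre P') (h : d.π x ∈ P'), φ' ⟨d.π x, h⟩ = d.π (φ x)

/-- Every map of `B` lifts to the generated system. -/
theorem lifts_of_mem {P' : Subgroup Ω'} {φ' : P' →* Ω'} (hφ' : φ' ∈ d.B.Hom P') :
    d.Lifts P' φ' := by
  have := d.finite_S'
  have := d.finite_V
  let G : FusionSystem V := subSystem d.B d.Lifts ?hconj ?hcomp ?hinv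
  case hconj =>
    intro P g hP hg
    obtain ⟨u, hu, hug⟩ := d.π_surj (d.V_le hg)
    refine ⟨_, d.gen.conj_mem (d.pre_mono hP) (d.mem_U.2 ⟨hu, hug.symm ▸ hg⟩), fun x h => ?_⟩
    show g * d.π x * g⁻¹ = d.π (u * (x : Ω) * u⁻¹)
    rw [d.π_conj hu (d.pre_le _ x.2), hug]
  case hcomp =>
    rintro P Q φ₁ φ₂ hφ₁ - ⟨a, ha, hae⟩ ⟨b, hb, hbe⟩ h
    have hv : ∀ x, a x ∈ d.pre Q := fun x =>
      d.mem_pre.2 ⟨map_mem_S d.F (d.gen_sub _ ha) x, hae x (d.mem_pre.1 x.2).2 ▸ h _⟩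
    refine ⟨_, d.gen.comp_mem ha hb hv, fun x hx => ?_⟩
    show φ₂ ⟨φ₁ ⟨d.π x, hx⟩, h _⟩ = d.π (b ⟨a x, hv x⟩)
    rw [← hbe ⟨a x, hv x⟩ (d.mem_pre.1 (hv x)).2]
    exact congrArg φ₂ (Subtype.ext (hae x hx))
  case hinv =>
    rintro P φ₁ hφ₁ ⟨a, ha, hae⟩ χ - hχe
    obtain ⟨c, hc, hce⟩ := d.gen.inv_mem ha
    have hPV : P ≤ S' := (le_S d.B hφ₁).trans d.V_le
    have hZr : d.Z ≤ a.range := d.Z_le_range (d.gen_sub _ ha) (d.Z_le_pre P)
    have hle : d.pre φ₁.range ≤ a.range := by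
      intro y hy
      obtain ⟨hyS, z, hz⟩ := d.mem_pre.1 hy
      obtain ⟨x, hx, hxz⟩ := d.π_surj (hPV z.2)
      set x₀ : d.pre P := ⟨x, d.mem_pre.2 ⟨hx, hxz.symm ▸ z.2⟩⟩
      have haS := map_mem_S d.F (d.gen_sub _ ha) x₀
      have he : d.π (a x₀) = d.π y := by
        rw [← hae x₀ (hxz.symm ▸ z.2), ← hz]
        exact congrArg φ₁ (Subtype.ext hxz)
      have := a.range.mul_mem ⟨x₀, rfl⟩ (hZr ((d.π_eq_iff haS hyS).1 he))
      rwa [mul_inv_cancel_left] at this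
    refine ⟨restr hle c, restr_mem d.gen hle hc, fun y hy => ?_⟩
    obtain ⟨x, hx⟩ := hle y.2
    have hxP : d.π x ∈ P := (d.mem_pre.1 x.2).2
    have h1 : (⟨d.π y, hy⟩ : φ₁.range) = ⟨φ₁ ⟨d.π x, hxP⟩, _, rfl⟩ :=
      Subtype.ext ((congrArg d.π hx.symm).trans (hae x hxP).symm)
    rw [h1, hχe, restr_apply]
    exact congrArg d.π ((hce x).symm.trans (congrArg c (Subtype.ext hx)))
  suffices hle : d.B ≤ G from (hle _ hφ').2
  clear hφ' φ' P'
  refine Cfsg.Agent.FusionBatch.le_of_centric_radical_step d.pgroup_V d.saturated_B G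
    fun P' hn hc _ ih => ?_
  have hP'S : P' ≤ S' := hn.1.trans d.V_le
  have hP'c := tCentric_of_centric d.inv_B hc
  have base : ∀ R' : Subgroup Ω', R' ≤ V → TFN d.E V R' → TCentric d.E V R' →
      d.B.autGroup R' ≤ G.autGroup R' := by
    intro R' hR' ht hc' b hb
    set R := d.pre R'
    have hRS : R ≤ S := d.pre_le R'
    have hRU : R ≤ d.U := d.pre_mono hR'
    have himg : d.img R = R' := d.img_pre (hR'.trans d.V_le)
    have hRc : d.Hc R := ⟨d.Z_le_pre R', hRU, himg.symm ▸ hc'⟩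
    let ι : R' ≃* d.img R := MulEquiv.subgroupCongr himg.symm
    have hbι : MulAut.congr ι b ∈ d.B.autGroup (d.img R) :=
      autCongr_mem d.B (mem_hom_congr d.B (subtype_mem d.B hR') fun y => rfl) hb
    obtain ⟨a, ha, hab⟩ := d.exists_lift_aut hRc.1 hRS ((mem_autGroup d.E (d.img_le R)).2
      (d.inv_B.1 _ (autGroup_mem_hom d.B (d.img_le_V hRU) hbι)))
    obtain ⟨l, hl, k, hk, hlk⟩ :=
      d.exists_loc_mul_K hRc (d.tfn_pre ht) ((d.mem_pull_aut hRU).2 ⟨ha, _, hbι, hab⟩)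
    have hlb : d.Over l (MulAut.congr ι b) := by
      have h := hab.mul hRS ((d.over_one_of_mem_K hk).inv hRS)
      rwa [hlk, mul_inv_cancel_right, inv_one, mul_one] at h
    refine (mem_autGroup G hR').2 ⟨autGroup_mem_hom d.B hR' hb, _,
      autGroup_mem_hom d.gen hRU (d.loc_le_gen hRc hl), fun x h => ?_⟩
    refine Eq.trans ?_ (hlb x (himg.symm ▸ h))
    rfl
  by_cases htop : P' = V
  · refine base P' hn.1 ⟨hn.1, fun R hR => ?_⟩ hP'c
    have hRV : R ≤ V := by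
      obtain ⟨φ, hφ, rfl⟩ := hR
      rintro _ ⟨x, rfl⟩
      exact sc_map_mem d.sc_V hφ (hn.1 x.2)
    have : R = V := eq_of_le_of_card_le hRV (by rw [← isConj_card_eq hR, htop])
    rw [this, htop]
  obtain ⟨e', he', R', hcar, ht⟩ := exists_e0_tfn d.pgroup_S' d.saturated_E d.inv_B d.saturated_B hn.1
  have hlt : P' < normalizerIn V P' := lt_normalizerIn d.pgroup_V (lt_of_le_of_ne hn.1 htop)
  have he'B : e' ∈ d.B.Hom (normalizerIn V P') := centricPElemSystem_sub d.B _ he'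
  have he'G : e' ∈ G.Hom (normalizerIn V P') :=
    ih _ (normalizerIn_le P') (card_lt_of_lt (normalizerIn_le P') hlt) he'B
  have hr : (restr hcar.1 e').range = R' := hcar.range_restr_eq
  set f := toIso d.B (restr_mem d.B hcar.1 he'B) hr
  have hfB : IsIso d.B f := toIso_isIso d.B _ hr
  have hfG : IsIso G f :=
    (isIso_iff_mem (toIso_coe d.B (restr_mem d.B hcar.1 he'B) hr)).2 (restr_mem G hcar.1 he'G)
  intro b hb
  have h := base R' ht.1 ht (tCentric_of_isConj d.sc_V hP'c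
    ⟨_, d.inv_B.1 _ (restr_mem d.B hcar.1 he'B), hr⟩) (autCongr_mem d.B hfB hb)
  have h2 := autCongr_mem G hfG.symm h
  rwa [show MulAut.congr f.symm (MulAut.congr f b) = b by ext x; simp] at h2

/-- An isomorphism of the generated system onto `R` extending to `N_U(X)`. -/
def Transport (X R : Subgroup Ω) (f : X ≃* R) : Prop :=
  IsIso d.gen f ∧ ∃ g ∈ d.gen.Hom (normalizerIn d.U X),
    ∀ (x : X) (h : (x : Ω) ∈ normalizerIn d.U X), g ⟨x, h⟩ = f x

theorem exists_transport {X R : Subgroup Ω} (hR : d.Hc R) (ht : TFN d.F d.U R)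
    (hXR : d.gen.IsConj X R) : ∃ f : X ≃* R, d.Transport X R f := by
  have := d.finite_S'
  have := d.finite_V
  have hXU := isConj_le_left hXR
  have hXS := hXU.trans d.U_le
  obtain ⟨e, he⟩ := (isConj_iff_exists_iso d.gen).1 hXR
  have heF : IsIso d.F e := d.gen_sub _ he
  have hX : d.Hc X := hR.congr heF.symm
  obtain ⟨-, -, φ', hφ', hre⟩ := d.gen_sub_pull _ he
  have hBconj : d.B.IsConj (d.img X) (d.img R) :=
    ⟨φ', hφ', by rw [d.img_range heF hre, range_subtype_comp]⟩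
  obtain ⟨θ', hθ', -, hθm⟩ := exists_normalizer_map_fullyNormalized d.pgroup_V d.saturated_B
    (tfn_fullyNormalized d.inv_B.1 (d.tfn_img ht hR.1)) hBconj
  have hN := d.normalizerU_eq hX.1 hXS
  obtain ⟨g, hg, hge⟩ := d.lifts_of_mem hθ'
  have hg' := restr_mem d.gen hN.le hg
  have hXN : X ≤ normalizerIn d.U X := le_normalizerIn hXU
  have hgX := restr_mem d.gen hXN hg'
  have hval : ∀ x : X, d.π (restr hXN (restr hN.le g) x) =
      θ' ⟨d.π x, le_normalizerIn (d.img_le_V hXU) (d.π_mem_img hXS x.2)⟩ := fun x =>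
    (hge _ _).symm
  have : Finite R := finite_of_le ‹_› hR.le_S
  have hr : (restr hXN (restr hN.le g)).range = R :=
    range_eq_of_image_le (d.gen.injective_of_mem hgX) (by
      rintro _ ⟨x, rfl⟩
      refine d.mem_of_π_mem hR.1 hR.le_S (d.U_le (map_mem_S d.gen hgX x)) ?_
      rw [hval x]
      exact (Carries.apply_mem ⟨le_normalizerIn (d.img_le_V hXU), hθm⟩
        (d.π_mem_img hXS x.2)))
      (isConj_card_eq hXR).ge
  exact ⟨toIso d.gen hgX hr, toIso_isIso d.gen hgX hr, _, hg', fun x h => rfl⟩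

/-- A map of the generated system on a larger subgroup restricts into the local group. -/
theorem restrict_mem_loc {R X : Subgroup Ω} (hR : d.Hc R) (ht : TFN d.F d.U R) (hRX : R < X)
    (hX : X ≤ normalizerIn d.U R)
    (ih : ∀ Y, d.Hc Y → Nat.card R < Nat.card Y →
      ∀ a ∈ d.gen.autGroup Y, a ∈ d.K Y → a ∈ Inn Y)
    {Λ : X →* Ω} (hΛ : Λ ∈ d.gen.Hom X) {l : MulAut R}
    (hl : ∀ y : R, Λ (Subgroup.inclusion hRX.le y) = l y) : l ∈ d.loc R := by
  have hRU := hR.2.1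
  have hRS := hR.le_S
  have hXU : X ≤ d.U := hX.trans (normalizerIn_le R)
  have hXS := hXU.trans d.U_le
  have : Finite R := finite_of_le ‹_› hRS
  have : Finite X := finite_of_le ‹_› hXS
  have hlgen : l ∈ d.gen.autGroup R :=
    (mem_autGroup d.gen hRU).2 (mem_of_restricts d.gen hRX.le hΛ fun y => (hl y).symm)
  have hlp : l ∈ d.pull.autGroup R :=
    (mem_autGroup d.pull hRU).2 (d.gen_sub_pull _ (autGroup_mem_hom d.gen hRU hlgen))
  obtain ⟨a, ha, k, hk, rfl⟩ := d.exists_loc_mul_K hR ht hlp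
  have hkp := d.K_le_pull hRU hk
  set A := autInducedBy X R
  have hA : Inn R ≤ A := inn_le_autInducedBy hRX.le
  have hAU : A ≤ autInducedBy d.U R := autInducedBy_mono hXU R
  haveI := inn_normal R
  have hact : ∀ (x : X) (hxN : (x : Ω) ∈ Subgroup.normalizer (R : Set Ω)),
      ∀ y : R, Λ x * (y : Ω) * (Λ x)⁻¹ =
        (((a * k) * R.normalizerMonoidHom ⟨x, hxN⟩ * (a * k)⁻¹) y : R) := by
    intro x hxN y
    obtain ⟨z, rfl⟩ := (a * k).surjective y
    show _ = (((a * k) (R.normalizerMonoidHom ⟨x, hxN⟩ ((a * k).symm ((a * k) z))) : R) : Ω)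
    rw [MulEquiv.symm_apply_apply, ← hl, ← hl, ← map_inv, ← map_mul, ← map_mul]
    exact congrArg Λ (Subtype.ext rfl)
  -- the local part carries `A` into `Aut_U(R)`
  have hmove : ∀ c ∈ A, ∃ i ∈ Inn R, a * c * a⁻¹ = i * ((a * k) * c * (a * k)⁻¹) := by
    intro c hc
    refine ⟨a * (k * c * k⁻¹ * c⁻¹)⁻¹ * a⁻¹, ?_, by group⟩
    exact (inn_normal R).conj_mem _
      ((Inn R).inv_mem (d.comm_mem_inn hR hk (d.autU_le_pull hRU (hAU hc)))) a
  have hcΛ : ∀ x : X, ∃ h : Λ x ∈ Subgroup.normalizer (R : Set Ω),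
      R.normalizerMonoidHom ⟨Λ x, h⟩ =
        (a * k) * R.normalizerMonoidHom ⟨x, (hX x.2).2⟩ * (a * k)⁻¹ := fun x =>
    ⟨mem_normalizer_of_conj_eq _ fun y => (hact x (hX x.2).2 y).symm,
      MulEquiv.ext fun y => Subtype.ext (hact x (hX x.2).2 y)⟩
  have haA : conjA a A ≤ autInducedBy d.U R := by
    rintro _ ⟨c, hc, rfl⟩
    obtain ⟨i, hi, hie⟩ := hmove c hc
    show a * c * a⁻¹ ∈ _
    rw [hie]
    refine mul_mem (inn_le_autInducedBy hRU hi) ?_
    obtain ⟨x, hx, hxc⟩ := mem_autInducedBy.1 hc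
    have e : R.normalizerMonoidHom ⟨x, (hX hx).2⟩ = c :=
      MulEquiv.ext fun y => Subtype.ext (hxc y).symm
    obtain ⟨h, he⟩ := hcΛ ⟨x, hx⟩
    rw [← e, ← he]
    exact mem_autInducedBy.2 ⟨_, map_mem_S d.gen hΛ ⟨x, hx⟩, fun _ => rfl⟩
  obtain ⟨Δ, hΔ, hΔe⟩ := d.extends_loc hR ht hA hAU ha haA
  have hpre := d.preAut_autInducedBy hR hRX.le hX
  set Δ₁ := restr hpre.ge Δ
  have hΔ₁ : Δ₁ ∈ d.gen.Hom X := restr_mem d.gen hpre.ge hΔ
  have hΔ₁r : Δ₁.range = d.preAut R (conjA a A) := by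
    rw [← extends_range hR hA hAU hΔ hΔe]
    ext z
    constructor
    · rintro ⟨x, rfl⟩
      exact ⟨_, rfl⟩
    · rintro ⟨x, rfl⟩
      exact ⟨⟨x, hpre.le x.2⟩, rfl⟩
  have hΛr : Λ.range = Δ₁.range := by
    have : Finite Δ₁.range := Finite.of_surjective _ Δ₁.rangeRestrict_surjective
    refine range_eq_of_image_le (d.gen.injective_of_mem hΛ) ?_
      (Nat.card_congr (MonoidHom.ofInjective (d.gen.injective_of_mem hΔ₁)).toEquiv).ge
    rintro _ ⟨x, rfl⟩
    rw [hΔ₁r]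
    obtain ⟨h, he⟩ := hcΛ x
    refine d.mem_preAut.2 ⟨map_mem_S d.gen hΛ x, h, ?_⟩
    have hcA : R.normalizerMonoidHom ⟨x, (hX x.2).2⟩ ∈ A :=
      mem_autInducedBy.2 ⟨x, x.2, fun _ => rfl⟩
    obtain ⟨i, hi, hie⟩ := hmove _ hcA
    rw [he, show (a * k) * R.normalizerMonoidHom ⟨x, (hX x.2).2⟩ * (a * k)⁻¹ =
      i⁻¹ * (a * R.normalizerMonoidHom ⟨x, (hX x.2).2⟩ * a⁻¹) by rw [hie, inv_mul_cancel_left]]
    exact mul_mem ((conjA a A).inv_mem (conjA_inn a hA hi)) (conjA_mem hcA)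
  set eΔ := toIso d.gen hΔ₁ rfl
  set eΛ := toIso d.gen hΛ hΛr
  set Ψ : MulAut X := eΛ.trans eΔ.symm
  have hΨ : Ψ ∈ d.gen.autGroup X :=
    (mem_autGroup d.gen hXU).2 ((toIso_isIso d.gen hΛ hΛr).trans (toIso_isIso d.gen hΔ₁ rfl).symm)
  have hΨR : ∀ y : R, Ψ (Subgroup.inclusion hRX.le y) = Subgroup.inclusion hRX.le (k y) := by
    intro y
    show eΔ.symm (eΛ (Subgroup.inclusion hRX.le y)) = _
    apply eΔ.injective
    rw [MulEquiv.apply_symm_apply]
    refine Subtype.ext ?_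
    show Λ (Subgroup.inclusion hRX.le y) = Δ ⟨(k y : R), _⟩
    exact (hl y).trans (hΔe (k y) _).symm
  obtain ⟨z, -, hz⟩ := d.exists_inner_mul_K hR hRX.le hXU
    ((mem_autGroup d.pull hXU).2 (d.gen_sub_pull _ (autGroup_mem_hom d.gen hXU hΨ))) fun x hx => by
      rw [show x = Subgroup.inclusion hRX.le ⟨x, hx⟩ from rfl, hΨR]
      exact hk.2 ⟨x, hx⟩
  have hin := ih X (hR.mono hRX.le hXU) (card_lt_of_lt hXS hRX) _
    (mul_mem ((d.gen.autGroup X).inv_mem (inn_le_autGroup d.gen hXU ⟨z, rfl⟩)) hΨ) hz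
  have h2 := (Inn X).mul_mem (show MulAut.conj z ∈ Inn X from ⟨z, rfl⟩) hin
  rw [mul_inv_cancel_left] at h2
  obtain ⟨w, hw⟩ := h2
  have hkw : ∀ y : R, (k y : Ω) = w * y * (w : Ω)⁻¹ := fun y => by
    have := congrArg Subtype.val (hΨR y)
    rw [← hw] at this
    exact this.symm
  have hwR : (w : Ω) ∈ R := hR.mem_of_centralizes (hXU w.2) fun x hx => by
    have h := hk.2 ⟨x, hx⟩
    rw [hkw, d.π_conj (hXS w.2) (hRS hx), mul_inv_eq_iff_eq_mul] at h
    exact h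
  refine mul_mem ha (d.inn_le_loc hRU ⟨⟨w, hwR⟩, MulEquiv.ext fun y => Subtype.ext ?_⟩)
  exact (hkw y).symm

/-- The twist of a map by transports lies in the local group. -/
theorem twist_mem_loc {R X Y P : Subgroup Ω} (hR : d.Hc R) (ht : TFN d.F d.U R)
    (ih : ∀ Z, d.Hc Z → Nat.card R < Nat.card Z →
      ∀ a ∈ d.gen.autGroup Z, a ∈ d.K Z → a ∈ Inn Z)
    {f₁ : X ≃* R} {f₂ : Y ≃* R} (h₁ : d.Transport X R f₁) (h₂ : d.Transport Y R f₂)
    (hXP : X < P) {φ : P →* Ω} (hφ : φ ∈ d.gen.Hom P) {e : X ≃* Y}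
    (he : ∀ x : X, φ (Subgroup.inclusion hXP.le x) = e x) :
    f₁.symm.trans (e.trans f₂) ∈ d.loc R := by
  obtain ⟨hf₁, g₁, hg₁, hge₁⟩ := h₁
  obtain ⟨hf₂, g₂, hg₂, hge₂⟩ := h₂
  have hPU := le_S d.gen hφ
  have hPS := hPU.trans d.U_le
  have hXU := hXP.le.trans hPU
  have : Finite P := finite_of_le ‹_› hPS
  set P₁ := normalizerIn P X with hP₁def
  have hXP₁ : X < P₁ := lt_normalizerIn (d.hS.to_le hPS) hXP
  have hP₁P : P₁ ≤ P := normalizerIn_le X
  have hP₁N : P₁ ≤ normalizerIn d.U X := inf_le_inf_right _ hPU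
  set γ := restr hP₁N g₁
  have hγ : γ ∈ d.gen.Hom P₁ := restr_mem d.gen hP₁N hg₁
  have hγX : ∀ x : X, γ (Subgroup.inclusion hXP₁.le x) = f₁ x := fun x => hge₁ x _
  have hmapX : (X.subgroupOf P₁).map γ = R :=
    (map_subgroupOf_eq_range X hXP₁.le (φ := R.subtype.comp f₁.toMonoidHom) hγX).trans
      (range_subtype_comp f₁)
  have hmapY : ∀ w : P₁, φ (Subgroup.inclusion hP₁P w) ∈ normalizerIn d.U Y := fun w =>
    ⟨map_mem_S d.gen hφ _, map_mem_normalizer (ψ := restr hP₁P φ) hXP₁.le inf_le_right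
      ((map_subgroupOf_eq_range X hXP₁.le (φ := Y.subtype.comp e.toMonoidHom) he).trans
        (range_subtype_comp e)) w⟩
  obtain ⟨γ', hγ', hγ'e⟩ := d.gen.inv_mem hγ
  have hv : ∀ w : γ.range, γ' w ∈ P₁ := by
    rintro ⟨_, x, rfl⟩
    rw [hγ'e x]
    exact x.2
  have hΛ₁ := d.gen.comp_mem (restr_mem d.gen hP₁P hφ) hg₂ hmapY
  have hΛ := d.gen.comp_mem hγ' hΛ₁ hv
  have : Finite P₁ := finite_of_le ‹_› (hP₁P.trans hPS)
  have hRle : R ≤ γ.range := fun y hy => ⟨Subgroup.inclusion hXP₁.le (f₁.symm ⟨y, hy⟩), by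
    rw [hγX, MulEquiv.apply_symm_apply]⟩
  have hRlt : R < γ.range := by
    refine lt_of_le_of_ne hRle fun h => ?_
    have h1 := card_lt_of_lt (hP₁P.trans hPS) hXP₁
    rw [Nat.card_congr f₁.toEquiv, Nat.card_congr
      (MonoidHom.ofInjective (d.gen.injective_of_mem hγ)).toEquiv, ← h] at h1
    exact lt_irrefl _ h1
  refine d.restrict_mem_loc hR ht hRlt ?_ ih hΛ fun y => ?_
  · rintro _ ⟨w, rfl⟩
    exact ⟨map_mem_S d.gen hγ w, map_mem_normalizer hXP₁.le inf_le_right hmapX w⟩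
  · obtain ⟨x, rfl⟩ := f₁.surjective y
    show g₂ ⟨φ (Subgroup.inclusion hP₁P ⟨γ' (Subgroup.inclusion hRlt.le (f₁ x)), _⟩), _⟩ = _
    have h1 : γ' (Subgroup.inclusion hRlt.le (f₁ x)) = (x : Ω) := by
      refine Eq.trans ?_ (hγ'e (Subgroup.inclusion hXP₁.le x))
      exact congrArg γ' (Subtype.ext (hγX x).symm)
    show _ = ((f₂ (e (f₁.symm (f₁ x))) : R) : Ω)
    rw [MulEquiv.symm_apply_apply]
    refine Eq.trans (congrArg g₂ (Subtype.ext
      (a2 := ⟨(e x : Ω), le_normalizerIn hf₂.le_left (e x).2⟩) (Eq.trans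
      (congrArg φ (Subtype.ext (a2 := Subgroup.inclusion hXP.le x) h1)) (he x)))) ?_
    exact hge₂ (e x) (le_normalizerIn (hf₂.le_left) (e x).2)

theorem gen_aut_le_loc_top (hU : d.Hc d.U) : d.gen.autGroup d.U ≤ d.loc d.U := by
  have : Finite d.U := d.finite_U
  have heq : ∀ {P : Subgroup Ω} {φ : P →* Ω}, φ ∈ d.gen.Hom P → P = d.U → φ.range = d.U := by
    rintro P φ hφ rfl
    exact range_eq_of_image_le (d.gen.injective_of_mem hφ) (range_le_S d.gen hφ) le_rfl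
  let G : FusionSystem d.U := subSystem d.gen
    (fun P φ => ∀ h : d.U ≤ P, ∃ a ∈ d.loc d.U, ∀ x : d.U, φ (Subgroup.inclusion h x) = a x)
    ?hconj ?hcomp ?hinv
  case hconj =>
    intro P g hP hg h
    refine ⟨d.U.normalizerMonoidHom ⟨g, Subgroup.le_normalizer hg⟩,
      d.autU_le_loc _ (mem_autInducedBy.2 ⟨g, hg, fun _ => rfl⟩), fun x => rfl⟩
  case hcomp =>
    intro P Q φ ψ hφ hψ hgφ hgψ hv h
    obtain ⟨a, ha, hae⟩ := hgφ h
    have hQ : d.U ≤ Q := fun x hx => by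
      obtain ⟨y, hy⟩ := a.surjective ⟨x, hx⟩
      have := hv (Subgroup.inclusion h y)
      rwa [hae, hy] at this
    obtain ⟨b, hb, hbe⟩ := hgψ hQ
    refine ⟨b * a, mul_mem hb ha, fun x => ?_⟩
    exact (congrArg ψ (Subtype.ext (hae x))).trans (hbe (a x))
  case hinv =>
    intro P φ hφ hgφ ψ hψ hψe h
    have hPU : P = d.U := by
      refine eq_of_le_of_card_le (le_S d.gen hφ) ?_
      rw [Nat.card_congr (MonoidHom.ofInjective (d.gen.injective_of_mem hφ)).toEquiv]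
      have : Finite φ.range := finite_of_le d.finite_U (range_le_S d.gen hφ)
      exact Subgroup.card_le_of_le h
    obtain ⟨a, ha, hae⟩ := hgφ hPU.ge
    refine ⟨a⁻¹, (d.loc d.U).inv_mem ha, fun x => ?_⟩
    refine Eq.trans (congrArg ψ (Subtype.ext ?_)) (hψe (Subgroup.inclusion hPU.ge (a⁻¹ x)))
    show (x : Ω) = φ _
    rw [hae, show a (a⁻¹ x) = x from a.apply_symm_apply x]
  have hG : d.ContainsGen G := fun Q hQ a ha => (mem_autGroup G hQ.2.1).2
    ⟨autGroup_mem_hom d.gen hQ.2.1 (d.gen_containsGen Q hQ ha), fun h => by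
      obtain rfl : Q = d.U := le_antisymm hQ.2.1 h
      exact ⟨a, d.pp_mem_loc ha.1 ha.2, fun x => rfl⟩⟩
  intro a ha
  obtain ⟨-, h⟩ := d.gen_le hG _ (autGroup_mem_hom d.gen le_rfl ha)
  obtain ⟨b, hb, hbe⟩ := h le_rfl
  rwa [show a = b from MulEquiv.ext fun x => Subtype.ext (hbe x)]

/-- The automizer of a representative in the generated system is the local group. -/
theorem gen_aut_le_loc {R : Subgroup Ω} (hR : d.Hc R) (ht : TFN d.F d.U R)
    (ih : ∀ Z, d.Hc Z → Nat.card R < Nat.card Z →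
      ∀ a ∈ d.gen.autGroup Z, a ∈ d.K Z → a ∈ Inn Z) :
    d.gen.autGroup R ≤ d.loc R := by
  rcases hR.2.1.eq_or_lt with rfl | hlt
  · exact d.gen_aut_le_loc_top hR
  have := d.finite_U
  have hUp := d.hS.to_le d.U_le
  have hcl : ∀ {X : Subgroup Ω}, d.gen.IsConj X R → X < d.U := fun {X} hX =>
    lt_of_le_of_ne (isConj_le_left hX) fun e => by
      have h1 := isConj_card_eq hX
      rw [e] at h1
      exact (card_lt_of_lt d.U_le hlt).ne' h1
  have hsame : ∀ {X : Subgroup Ω} {f₁ f₂ : X ≃* R}, d.Transport X R f₁ → d.Transport X R f₂ →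
      f₁.symm.trans f₂ ∈ d.loc R := by
    intro X f₁ f₂ h₁ h₂
    have hX := hcl h₁.1.isConj
    have h := d.twist_mem_loc hR ht ih h₁ h₂ (lt_normalizerIn hUp hX)
      (φ := (normalizerIn d.U X).subtype) (subtype_mem d.gen (normalizerIn_le X))
      (e := MulEquiv.refl X) fun x => rfl
    exact h
  let good : ∀ P : Subgroup Ω, (P →* Ω) → Prop := fun P φ =>
    ∀ (X Y : Subgroup Ω) (hXP : X ≤ P) (e : X ≃* Y), d.gen.IsConj X R →
      (∀ x : X, φ (Subgroup.inclusion hXP x) = e x) →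
      ∀ (f₁ : X ≃* R) (f₂ : Y ≃* R), d.Transport X R f₁ → d.Transport Y R f₂ →
        f₁.symm.trans (e.trans f₂) ∈ d.loc R
  let G : FusionSystem d.U := subSystem d.gen good ?hconj ?hcomp ?hinv
  case hconj =>
    intro P g hP hg X Y hXP e hX he f₁ f₂ h₁ h₂
    exact d.twist_mem_loc hR ht ih h₁ h₂ (lt_normalizerIn hUp (hcl hX))
      (d.gen.conj_mem (normalizerIn_le X) hg) (fun x => he x)
  case hcomp =>
    intro P Q φ ψ hφ hψ hgφ hgψ hv X W hXP e hX he f₁ f₃ h₁ h₃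
    set Y := (restr hXP φ).range
    set e₁ : X ≃* Y := toIso d.gen (restr_mem d.gen hXP hφ) rfl
    have hY : d.gen.IsConj Y R :=
      isConj_trans (isConj_symm (toIso_isIso d.gen (restr_mem d.gen hXP hφ) rfl).isConj) hX
    have hYQ : Y ≤ Q := by
      rintro _ ⟨x, rfl⟩
      exact hv _
    obtain ⟨f₂, h₂⟩ := d.exists_transport hR ht hY
    have m₁ := hgφ X Y hXP e₁ hX (fun x => rfl) f₁ f₂ h₁ h₂
    have m₂ := hgψ Y W hYQ (e₁.symm.trans e) hY (fun y => by
      obtain ⟨x, rfl⟩ := e₁.surjective y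
      show _ = ((e (e₁.symm (e₁ x)) : W) : Ω)
      rw [MulEquiv.symm_apply_apply, ← he x]
      rfl) f₂ f₃ h₂ h₃
    have h := mul_mem m₂ m₁
    have e' : f₁.symm.trans (e.trans f₃) =
        (f₂.symm.trans ((e₁.symm.trans e).trans f₃) : MulAut R) * f₁.symm.trans (e₁.trans f₂) :=
      MulEquiv.ext fun y => by simp [MulAut.mul_apply]
    rwa [← e'] at h
  case hinv =>
    intro P φ hφ hgφ ψ hψ hψe X Y hXP e hX he f₁ f₂ h₁ h₂
    have hYP : Y ≤ P := fun y hy => by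
      obtain ⟨x, hx⟩ := e.surjective ⟨y, hy⟩
      obtain ⟨z, hz⟩ := hXP x.2
      have h' : ψ (Subgroup.inclusion hXP x) = z :=
        (congrArg ψ (Subtype.ext hz.symm)).trans (hψe z)
      rw [he x, hx] at h'
      exact (show y = (z : Ω) from h') ▸ z.2
    have heI : IsIso d.gen e := mem_of_restricts d.gen hXP hψ fun x => (he x).symm
    have h := hgφ Y X hYP e.symm (isConj_trans (isConj_symm heI.isConj) hX) (fun y => by
      obtain ⟨x, rfl⟩ := e.surjective y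
      rw [MulEquiv.symm_apply_apply]
      obtain ⟨z, hz⟩ := hXP x.2
      have h' : ψ (Subgroup.inclusion hXP x) = z :=
        (congrArg ψ (Subtype.ext hz.symm)).trans (hψe z)
      rw [he x] at h'
      rw [← hz]
      exact congrArg φ (Subtype.ext h')) f₂ f₁ h₂ h₁
    have h' := (d.loc R).inv_mem h
    have e' : f₁.symm.trans (e.trans f₂) = (f₂.symm.trans (e.symm.trans f₁) : MulAut R)⁻¹ :=
      MulEquiv.ext fun y => by simp [MulAut.inv_def]
    rwa [← e'] at h'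
  have hG : d.ContainsGen G := by
    intro Q hQ a ha
    have hag := d.gen_containsGen Q hQ ha
    refine (mem_autGroup G hQ.2.1).2 ⟨autGroup_mem_hom d.gen hQ.2.1 hag, ?_⟩
    intro X Y hXQ e hX he f₁ f₂ h₁ h₂
    rcases hXQ.lt_or_eq with hlt' | rfl
    · exact d.twist_mem_loc hR ht ih h₁ h₂ hlt' (autGroup_mem_hom d.gen hQ.2.1 hag) fun x => he x
    · obtain rfl : X = Y := by
        ext y
        constructor
        · intro hy
          obtain ⟨x, hx⟩ := a.surjective ⟨y, hy⟩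
          have h' : (a x : Ω) = e x := he x
          rw [hx] at h'
          exact (show y = (e x : Ω) from h') ▸ (e x).2
        · intro hy
          obtain ⟨x, hx⟩ := e.surjective ⟨y, hy⟩
          have h' : (a x : Ω) = e x := he x
          rw [hx] at h'
          exact (show (a x : Ω) = y from h') ▸ (a x).2
      obtain rfl : e = a := MulEquiv.ext fun x => Subtype.ext (he x).symm
      have m₂ : MulAut.congr f₁ e ∈ d.loc R := d.pp_mem_loc
        (d.congr_mem_pull hQ.2.1 (d.gen_sub _ h₁.1) ha.1)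
        ((congrArg (Nat.Coprime · p) (MulEquiv.orderOf_eq (MulAut.congr f₁) e)).mpr ha.2 : _)
      have h := mul_mem (hsame h₁ h₂) m₂
      have e' : f₁.symm.trans (e.trans f₂) =
          (f₁.symm.trans f₂ : MulAut R) * MulAut.congr f₁ e :=
        MulEquiv.ext fun y => by simp [MulAut.mul_apply, autCongr_apply]
      rwa [← e'] at h
  intro a ha
  obtain ⟨-, h⟩ := d.gen_le hG _ (autGroup_mem_hom d.gen hR.2.1 ha)
  obtain ⟨f, hf⟩ := d.exists_transport hR ht (isConj_refl d.gen hR.2.1)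
  have hfp : (f : MulAut R) ∈ d.pull.autGroup R :=
    (mem_autGroup d.pull hR.2.1).2 (d.gen_sub_pull _ hf.1)
  have h' := h R R le_rfl a (isConj_refl d.gen hR.2.1) (fun x => rfl) f f hf hf
  have e' : (f.symm.trans ((a : R ≃* R).trans f) : MulAut R) = f * a * (f : MulAut R)⁻¹ :=
    MulEquiv.ext fun y => by simp [MulAut.mul_apply, MulAut.inv_def]
  rw [e'] at h'
  have := d.conj_mem_loc hR ht ((d.pull.autGroup R).inv_mem hfp) h'
  simpa [mul_assoc] using this

/-- Every class of centric subgroups of the generated system has a representative. -/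
theorem exists_rep {X : Subgroup Ω} (hX : d.Hc X) :
    ∃ R, d.gen.IsConj X R ∧ d.Hc R ∧ TFN d.F d.U R := by
  have := d.finite_S'
  have hXV := d.img_le_V hX.2.1
  obtain ⟨e', he', R', hcar, ht⟩ :=
    exists_e0_tfn d.pgroup_S' d.saturated_E d.inv_B d.saturated_B hXV
  obtain ⟨g, hg, hge⟩ := d.lifts_of_mem (centricPElemSystem_sub d.B _ he')
  have hXN : X ≤ d.pre (normalizerIn V (d.img X)) := fun x hx =>
    d.mem_pre.2 ⟨hX.le_S hx, le_normalizerIn hXV (d.π_mem_img hX.le_S hx)⟩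
  have hgX := restr_mem d.gen hXN hg
  set R := (restr hXN g).range
  have hc : d.gen.IsConj X R := ⟨_, hgX, rfl⟩
  have hR : d.Hc R := hX.congr (d.gen_sub _ (toIso_isIso d.gen hgX rfl))
  refine ⟨R, hc, hR, ?_⟩
  have himg : d.img R = R' := by
    ext y
    rw [d.mem_img hR.le_S]
    constructor
    · rintro ⟨_, ⟨x, rfl⟩, rfl⟩
      rw [restr_apply, ← hge _ (d.mem_pre.1 (hXN x.2)).2]
      exact hcar.apply_mem (d.π_mem_img hX.le_S x.2)
    · intro hy
      obtain ⟨w, hw, rfl⟩ := hcar.exists_preimage hy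
      obtain ⟨x, hx, hxw⟩ := (d.mem_img hX.le_S).1 hw
      refine ⟨_, ⟨⟨x, hx⟩, rfl⟩, ?_⟩
      rw [restr_apply, ← hge _ (d.mem_pre.1 (hXN hx)).2]
      exact congrArg e' (Subtype.ext hxw)
  have h := d.tfn_pre ht
  rwa [← himg, d.pre_img hR.1 hR.le_S] at h

/-- The generated system meets the kernel in inner automorphisms. -/
theorem gen_inf_K {X : Subgroup Ω} (hX : d.Hc X) {a : MulAut X} (ha : a ∈ d.gen.autGroup X)
    (haK : a ∈ d.K X) : a ∈ Inn X := by
  have := d.finite_U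
  refine downward_induction (S := d.U)
    (motive := fun X => d.Hc X → ∀ a ∈ d.gen.autGroup X, a ∈ d.K X → a ∈ Inn X)
    (fun P hPU ih hP a ha haK => ?_) hX.2.1 hX a ha haK
  obtain ⟨R, hPR, hR, ht⟩ := d.exists_rep hP
  obtain ⟨e, he⟩ := (isConj_iff_exists_iso d.gen).1 hPR
  have hloc := d.gen_aut_le_loc hR ht fun Z hZ hlt => ih Z hZ.2.1
    (by rw [isConj_card_eq hPR]; exact hlt) hZ
  have h := d.loc_inf_K hR (hloc (autCongr_mem d.gen he ha)) (d.congr_mem_K (d.gen_sub _ he) haK)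
  have h2 := congr_mem_inn e.symm h
  rwa [show MulAut.congr e.symm (MulAut.congr e a) = a by ext x; simp] at h2

theorem gen_aut_eq_loc {R : Subgroup Ω} (hR : d.Hc R) (ht : TFN d.F d.U R) :
    d.gen.autGroup R = d.loc R :=
  le_antisymm (d.gen_aut_le_loc hR ht fun _ hZ _ _ ha hK => d.gen_inf_K hZ ha hK) (d.loc_le_gen hR)

end Cfsg.Agent.FusionAlperin.CentralData
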