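import Cfsg.Agent.FusionAlperin.Pullback.Centric
import Cfsg.Agent.FusionAlperin.GoodLift
import Cfsg.Agent.FusionBatch.Basic

/-!
The automorphisms in the pullback centralize the kernel modulo inner automorphisms.
-/

set_option autoImplicit false
set_option linter.unusedSectionVars false

open Cfsg Cfsg.FusionSystem
open Cfsg.Agent.FusionSys

namespace Cfsg.Agent.FusionAlperin

theorem sylIn_of_le {G : Type*} [Group G] {p : ℕ} [Fact p.Prime] {R N M : Subgroup G} [Finite N]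
    (h : SylIn p R N) (hRM : R ≤ M) (hMN : M ≤ N) : SylIn p R M := by
  obtain ⟨R₂, hR₂, hRR₂⟩ := exists_sylIn_ge hRM h.isPGroup
  have h2 := h.le_of_ge (hR₂.le.trans hMN) hR₂.isPGroup hRR₂
  obtain rfl : R = R₂ := le_antisymm hRR₂ h2
  exact hR₂

theorem exists_pprime_pow {G : Type*} [Group G] [Finite G] {p : ℕ} [hp : Fact p.Prime] (x : G)
    {m₀ : ℕ} (h : m₀.Coprime p) :
    ∃ k, k ≡ 1 [MOD m₀] ∧ Nat.Coprime (orderOf (x ^ k)) p := by
  obtain ⟨k, a, m, ho, hm, ⟨l, hl⟩, hk⟩ := exists_exponent (orderOf_pos x).ne' hp.out h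
  refine ⟨k, hk, Nat.Coprime.coprime_dvd_left (orderOf_dvd_of_pow_eq_one (n := m) ?_) hm⟩
  rw [← pow_mul, hl, show p ^ a * l * m = orderOf x * l by rw [ho]; ring, pow_mul,
    pow_orderOf_eq_one, one_pow]

theorem inn_normal {Ω : Type*} [Group Ω] (Q : Subgroup Ω) : (Inn Q).Normal := by
  refine ⟨?_⟩
  rintro _ ⟨q, rfl⟩ a
  refine ⟨a q, MulEquiv.ext fun y => ?_⟩
  obtain ⟨x, rfl⟩ := a.surjective y
  simp [MulAut.inv_def]

namespace CentralData

variable {Ω : Type*} [Group Ω] {Ω' : Type*} [Group Ω'] {S : Subgroup Ω} {S' V : Subgroup Ω'}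
  {p : ℕ} (d : CentralData S S' V p) [Finite S] [Fact p.Prime]

/-- `a` and `k` commute modulo inner automorphisms. -/
def CommInn {Q : Subgroup Ω} (a k : MulAut Q) : Prop := a * k * a⁻¹ * k⁻¹ ∈ Inn Q

/-- The pullback centralizes the kernel modulo inner automorphisms. -/
def CK (Q : Subgroup Ω) : Prop :=
  ∀ a ∈ d.pull.autGroup Q, ∀ k ∈ d.K Q, CommInn a k

theorem commInn_iff {Q : Subgroup Ω} {a k : MulAut Q} :
    CommInn a k ↔ haveI := inn_normal Q
      QuotientGroup.mk' (Inn Q) a * QuotientGroup.mk' (Inn Q) k =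
        QuotientGroup.mk' (Inn Q) k * QuotientGroup.mk' (Inn Q) a := by
  haveI := inn_normal Q
  show _ ↔ _
  rw [CommInn, ← QuotientGroup.eq_one_iff, ← QuotientGroup.mk'_apply, map_mul, map_mul, map_mul,
    map_inv, map_inv, mul_inv_eq_one, mul_inv_eq_iff_eq_mul]

/-- The elements commuting with the kernel modulo inner automorphisms. -/
def centK (Q : Subgroup Ω) : Subgroup (MulAut Q) :=
  haveI := inn_normal Q
  (Subgroup.centralizer (((d.K Q).map (QuotientGroup.mk' (Inn Q)) :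
    Subgroup (MulAut Q ⧸ Inn Q)) : Set (MulAut Q ⧸ Inn Q))).comap (QuotientGroup.mk' (Inn Q))

theorem mem_centK {Q : Subgroup Ω} {a : MulAut Q} :
    a ∈ d.centK Q ↔ ∀ k ∈ d.K Q, CommInn a k := by
  haveI := inn_normal Q
  rw [centK, Subgroup.mem_comap, Subgroup.mem_centralizer_iff]
  refine ⟨fun h k hk => commInn_iff.2 (h _ ⟨k, hk, rfl⟩).symm, ?_⟩
  rintro h _ ⟨k, hk, rfl⟩
  exact (commInn_iff.1 (h k hk)).symm

theorem ck_congr {Q R : Subgroup Ω} (hR : R ≤ d.U) {e : Q ≃* R} (he : IsIso d.F e)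
    (h : d.CK R) : d.CK Q := by
  intro a ha k hk
  have hQU := d.le_of_iso he.symm hR
  have h1 := h _ (d.congr_mem_pull hQU he ha) _ (d.congr_mem_K he hk)
  have h2 := congr_mem_inn e.symm h1
  have e1 : ∀ b : MulAut Q, MulAut.congr e.symm (MulAut.congr e b) = b := fun b => by ext x; simp
  rwa [← map_inv, ← map_inv, ← map_mul, ← map_mul, ← map_mul, e1] at h2

/-- A lift of a map with displacement in the image commutes with the kernel modulo inner
automorphisms. -/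
theorem exists_centK_of_lift {Q : Subgroup Ω} (hQ : d.Hc Q)
    (hK : ∀ k ∈ d.K Q, ∃ s ∈ S, ∀ x : Q, (k x : Ω) = s * x * s⁻¹) {W' : Subgroup Ω'}
    (hW : W' ≤ S') (hQW : d.img Q ≤ W') (hCW : centralizerIn S' (d.img Q) ≤ W') {φ' : W' →* Ω'}
    (hφ' : φ' ∈ d.E.Hom W') {b : MulAut (d.img Q)} (hb : b ∈ d.B.autGroup (d.img Q))
    (hres : ∀ y : d.img Q, φ' (Subgroup.inclusion hQW y) = b y)
    (hdisp : ∀ c : W', (c : Ω') ∈ centralizerIn S' (d.img Q) →
      (c : Ω')⁻¹ * φ' c ∈ d.img Q) :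
    ∃ a, a ∈ d.centK Q ∧ a ∈ d.pull.autGroup Q ∧ d.Over a b := by
  have hQS := hQ.le_S
  have hWS := d.pre_le W'
  have hle : d.img (d.pre W') ≤ W' := (d.img_pre hW).le
  obtain ⟨φ, hφ, he⟩ := d.exists_lift (d.Z_le_pre W') hWS (restr_mem d.E hle hφ')
  have hQpre : Q ≤ d.pre W' := fun x hx => d.mem_pre.2 ⟨hQS hx, hQW (d.π_mem_img hQS hx)⟩
  have hval : ∀ (x : d.pre W'), d.π (φ x) = φ' ⟨d.π x, (d.mem_pre.1 x.2).2⟩ := fun x =>
    (he x (d.π_mem_img hWS x.2)).symm.trans rfl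
  have hφQ : ∀ x : Q, d.π (φ (Subgroup.inclusion hQpre x)) =
      (b ⟨d.π x, d.π_mem_img hQS x.2⟩ : Ω') := fun x =>
    (hval (Subgroup.inclusion hQpre x)).trans (hres ⟨d.π x, d.π_mem_img hQS x.2⟩)
  have : Finite Q := finite_of_le ‹_› hQS
  have hr : (restr hQpre φ).range = Q :=
    range_eq_of_image_le (d.F.injective_of_mem (restr_mem d.F hQpre hφ)) (by
      rintro _ ⟨x, rfl⟩
      refine d.mem_of_π_mem hQ.1 hQS (map_mem_S d.F hφ _) ?_
      rw [restr_apply, hφQ]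
      exact Subtype.mem _) le_rfl
  set a := toIso d.F (restr_mem d.F hQpre hφ) hr
  have hab : d.Over a b := fun x _ => (hφQ x).symm
  refine ⟨a, d.mem_centK.2 fun k hk => ?_,
    (d.mem_pull_aut hQ.2.1).2 ⟨toIso_mem_autGroup d.F _ hr, b, hb, hab⟩, hab⟩
  obtain ⟨s, hs, hsk⟩ := hK k hk
  have hsC : d.π s ∈ centralizerIn S' (d.img Q) := by
    refine mem_centralizerIn_iff_conj.2 ⟨d.π_mem hs, fun y => ?_⟩
    obtain ⟨x, hx, hxy⟩ := (d.mem_img hQS).1 y.2
    rw [← hxy, ← d.π_conj hs (hQS hx), ← hsk ⟨x, hx⟩]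
    exact hk.2 _
  have hsW : s ∈ d.pre W' := d.mem_pre.2 ⟨hs, hCW hsC⟩
  set t := φ ⟨s, hsW⟩
  have htS : t ∈ S := map_mem_S d.F hφ _
  have htQ : t * s⁻¹ ∈ Q := by
    refine d.mem_of_π_mem hQ.1 hQS (S.mul_mem htS (S.inv_mem hs)) ?_
    rw [d.π_mul htS (S.inv_mem hs), d.π_inv hs, hval ⟨s, hsW⟩]
    have h1 := hdisp ⟨d.π s, hCW hsC⟩ hsC
    have h2 := (mem_centralizerIn_iff_conj.1 hsC).2 ⟨_, h1⟩
    rw [mul_inv_cancel_left] at h2
    exact h2.symm ▸ h1
  refine ⟨⟨_, htQ⟩, MulEquiv.ext fun y => Subtype.ext ?_⟩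
  show t * s⁻¹ * (y : Ω) * (t * s⁻¹)⁻¹ = ((a * k * a⁻¹ * k⁻¹) y : Q)
  obtain ⟨y₁, rfl⟩ := k.surjective y
  obtain ⟨y₂, rfl⟩ := a.surjective y₁
  simp only [MulAut.mul_apply, MulAut.inv_def, MulEquiv.symm_apply_apply]
  rw [hsk (a y₂)]
  show _ = φ (Subgroup.inclusion hQpre (k y₂))
  have e : (Subgroup.inclusion hQpre (k y₂) : d.pre W') =
      ⟨s, hsW⟩ * Subgroup.inclusion hQpre y₂ * ⟨s, hsW⟩⁻¹ := Subtype.ext (hsk y₂)
  rw [e, map_mul, map_mul, map_inv]
  show _ = t * (a y₂ : Ω) * t⁻¹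
  group

/-- An automorphism in `B` of order prime to `p` lifts to one of order prime to `p`. -/
theorem exists_pprime_lift {Q : Subgroup Ω} (hZ : d.Z ≤ Q) (hQ : Q ≤ d.U)
    {b : MulAut (d.img Q)} (hb : b ∈ d.B.autGroup (d.img Q))
    (ho : Nat.Coprime (orderOf b) p) :
    ∃ a ∈ d.pull.autGroup Q, Nat.Coprime (orderOf a) p ∧ d.Over a b := by
  have hQS := hQ.trans d.U_le
  have : Finite Q := finite_of_le ‹_› hQS
  obtain ⟨a, ha, hab⟩ := d.exists_lift_aut hZ hQS ((mem_autGroup d.E (d.img_le Q)).2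
    (d.inv_B.1 _ (autGroup_mem_hom d.B (d.img_le_V hQ) hb)))
  obtain ⟨k, hk, hka⟩ := exists_pprime_pow a ho
  have hbk : b ^ k = b := by
    conv_rhs => rw [← pow_one b]
    exact pow_eq_pow_iff_modEq.2 hk
  exact ⟨a ^ k, (d.mem_pull_aut hQ).2 ⟨pow_mem ha k, b, hb, hbk ▸ hab.pow hQS k⟩, hka,
    hbk ▸ hab.pow hQS k⟩

theorem centK_of_autU {Q : Subgroup Ω} (hQ : d.Hc Q)
    (hK : ∀ k ∈ d.K Q, ∃ s ∈ S, ∀ x : Q, (k x : Ω) = s * x * s⁻¹) :
    autInducedBy d.U Q ≤ d.centK Q := by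
  intro a ha
  obtain ⟨u, hu, hua⟩ := mem_autInducedBy.1 ha
  refine d.mem_centK.2 fun k hk => ?_
  obtain ⟨s, hs, hsk⟩ := hK k hk
  have hQS := hQ.le_S
  have huS := d.U_le hu
  set q := u * s * u⁻¹ * s⁻¹ with hqdef
  have hval : ∀ y : Q, (((a * k * a⁻¹ * k⁻¹) y : Q) : Ω) = q * y * q⁻¹ := by
    intro y
    obtain ⟨y₁, rfl⟩ := k.surjective y
    obtain ⟨y₂, rfl⟩ := a.surjective y₁
    simp only [MulAut.mul_apply, MulAut.inv_def, MulEquiv.symm_apply_apply]
    rw [hua, hsk, hsk, hua, hqdef]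
    group
  have hqU : q ∈ d.U := by
    have h1 := d.U.mul_mem hu (sc_conj_mem d.sc_U hs (d.U.inv_mem hu))
    simpa [hqdef, mul_assoc] using h1
  have hqQ : q ∈ Q := by
    refine hQ.mem_of_centralizes hqU fun x hx => ?_
    have haF : a ∈ d.F.autGroup Q := autInducedBy_le_autGroup d.F hQS
      (autInducedBy_mono d.U_le Q ha)
    have hmem : a * k * a⁻¹ * k⁻¹ ∈ d.K Q :=
      mul_mem (d.conj_mem_K hQS haF hk) ((d.K Q).inv_mem hk)
    have h1 := hmem.2 ⟨x, hx⟩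
    rw [hval, d.π_conj (d.U_le hqU) (hQS hx), mul_inv_eq_iff_eq_mul] at h1
    exact h1
  exact ⟨⟨q, hqQ⟩, MulEquiv.ext fun y => Subtype.ext (hval y).symm⟩

/-- The normalizer of the Sylow subgroup of the automizer of a centric subgroup in `B`. -/
theorem centK_of_normalizing {Q : Subgroup Ω} (hQ : d.Hc Q)
    (hK : ∀ k ∈ d.K Q, ∃ s ∈ S, ∀ x : Q, (k x : Ω) = s * x * s⁻¹)
    (hfn : d.B.IsFullyNormalized (d.img Q)) (hCK : d.CK (normalizerIn d.U Q))
    {n : MulAut (d.img Q)} (hn : n ∈ d.B.autGroup (d.img Q)) (ho : Nat.Coprime (orderOf n) p)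
    (hnN : n ∈ Subgroup.normalizer (autInducedBy V (d.img Q) : Set (MulAut (d.img Q)))) :
    ∃ a, a ∈ d.centK Q ∧ a ∈ d.pull.autGroup Q ∧ d.Over a n := by
  have hQS := hQ.le_S
  have := d.finite_V
  have hP'V := d.img_le_V hQ.2.1
  set N := normalizerIn d.U Q with hNdef
  have hNU : N ≤ d.U := normalizerIn_le Q
  have hNS := hNU.trans d.U_le
  have hQN : Q ≤ N := le_normalizerIn hQ.2.1
  have hNc : d.Hc N := hQ.mono hQN hNU
  have hNimg : d.img N = normalizerIn V (d.img Q) := by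
    rw [hNdef, d.normalizerU_eq hQ.1 hQS, d.img_pre ((normalizerIn_le _).trans d.V_le)]
  set N' := normalizerIn V (d.img Q)
  have hP'N : (d.img Q) ≤ N' := le_normalizerIn hP'V
  obtain ⟨ψ', hψ', hψe⟩ := exists_ext_aut'
    (saturated_fullyCentralized d.pgroup_V d.saturated_B
      (saturated_fullyNormalized d.pgroup_V d.saturated_B hfn).1) hn hP'N le_rfl
    fun g hg => ⟨⟨g, hg.2⟩, (Subgroup.mem_normalizer_iff.1 hnN _).1
      (mem_autInducedBy.2 ⟨g, hg.1, fun _ => rfl⟩), rfl⟩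
  have hψv : ∀ y, ψ' y ∈ N' := fun y => by
    refine ⟨map_mem_S d.B hψ' y, ?_⟩
    exact map_mem_normalizer hP'N inf_le_right ((map_subgroupOf_eq_range (d.img Q) hP'N
      (φ := (d.img Q).subtype.comp n.toMonoidHom) hψe).trans (range_subtype_comp n)) y
  have : Finite N' := finite_of_le ‹_› (normalizerIn_le (d.img Q))
  have hr : ψ'.range = N' := range_eq_of_image_le (d.B.injective_of_mem hψ')
    (by rintro _ ⟨y, rfl⟩; exact hψv y) le_rfl
  set Ψ₀ := toIso d.B hψ' hr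
  obtain ⟨k₀, hk₀, hΨo⟩ := exists_pprime_pow Ψ₀ ho
  set Ψ := Ψ₀ ^ k₀
  have hΨB : Ψ ∈ d.B.autGroup N' := pow_mem (toIso_mem_autGroup d.B hψ' hr) k₀
  have hΨe : ∀ y : (d.img Q), (Ψ (Subgroup.inclusion hP'N y) : Ω') = n y := by
    intro y
    have h0 : ∀ (i : ℕ) (y : (d.img Q)), ((Ψ₀ ^ i) (Subgroup.inclusion hP'N y) : Ω') = (n ^ i) y := by
      intro i
      induction i with
      | zero => exact fun _ => rfl
      | succ i ih =>
        intro y
        rw [pow_succ', pow_succ', MulAut.mul_apply, MulAut.mul_apply]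
        refine Eq.trans (congrArg (fun w => ((Ψ₀ w : N') : Ω')) (Subtype.ext (ih y) :
          (Ψ₀ ^ i) (Subgroup.inclusion hP'N y) = Subgroup.inclusion hP'N ((n ^ i) y))) ?_
        exact hψe _
    rw [h0 k₀ y]
    have : n ^ k₀ = n := by
      conv_rhs => rw [← pow_one n]
      exact pow_eq_pow_iff_modEq.2 hk₀
    rw [this]
  -- lift to `N`
  let ι : N' ≃* d.img N := MulEquiv.subgroupCongr hNimg.symm
  have hΨι : MulAut.congr ι Ψ ∈ d.B.autGroup (d.img N) :=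
    autCongr_mem d.B (mem_hom_congr d.B (subtype_mem d.B (normalizerIn_le (d.img Q))) fun y => rfl) hΨB
  obtain ⟨ν, hν, hνo, hνΨ⟩ := d.exists_pprime_lift hNc.1 hNU hΨι
    (by rw [MulEquiv.orderOf_eq]; exact hΨo)
  have hνval : ∀ x : N, d.π (ν x : N) = (Ψ ⟨d.π x, hNimg ▸ d.π_mem_img hNS x.2⟩ : Ω') :=
    fun x => (hνΨ x (d.π_mem_img hNS x.2)).symm
  have hνQ : ∀ x : Q, d.π (ν (Subgroup.inclusion hQN x) : N) =
      (n ⟨d.π x, d.π_mem_img hQS x.2⟩ : Ω') := fun x =>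
    (hνval (Subgroup.inclusion hQN x)).trans (hΨe ⟨d.π x, d.π_mem_img hQS x.2⟩)
  have hνF := ((d.mem_pull_aut hNU).1 hν).1
  have hres := restr_mem d.F hQN (autGroup_mem_hom d.F hNS hνF)
  have : Finite Q := finite_of_le ‹_› hQS
  have hrQ : (restr hQN (N.subtype.comp ν.toMonoidHom)).range = Q :=
    range_eq_of_image_le (d.F.injective_of_mem hres) (by
      rintro _ ⟨x, rfl⟩
      refine d.mem_of_π_mem hQ.1 hQS (hNS (ν _).2) ?_
      show d.π (ν (Subgroup.inclusion hQN x) : N) ∈ _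
      rw [hνQ]
      exact Subtype.mem _) le_rfl
  set a := toIso d.F hres hrQ
  have hab : d.Over a n := fun x _ => (hνQ x).symm
  refine ⟨a, d.mem_centK.2 fun k hk => ?_,
    (d.mem_pull_aut hQ.2.1).2 ⟨toIso_mem_autGroup d.F _ hrQ, n, hn, hab⟩, hab⟩
  obtain ⟨s, hs, hsk⟩ := hK k hk
  have hsQ : ∀ x : Q, d.π s * d.π x * (d.π s)⁻¹ = d.π x := fun x => by
    rw [← d.π_conj hs (hQS x.2), ← hsk x]
    exact hk.2 x
  have hsN : s ∈ normalizerIn S N := by
    have hsQn : s ∈ Subgroup.normalizer (Q : Set Ω) := mem_normalizer_of_conj_eq k hsk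
    refine ⟨hs, Subgroup.mem_normalizer_iff.2 fun x => ?_⟩
    rw [hNdef, mem_normalizerIn, mem_normalizerIn]
    constructor
    · exact fun hx => ⟨sc_conj_mem d.sc_U hs hx.1,
        mul_mem (mul_mem hsQn hx.2) (inv_mem hsQn)⟩
    · intro hx
      refine ⟨?_, ?_⟩
      · have := sc_conj_mem d.sc_U (S.inv_mem hs) hx.1
        simpa [mul_assoc] using this
      · have := mul_mem (mul_mem (inv_mem hsQn) hx.2) hsQn
        simpa [mul_assoc] using this
  set c : MulAut N := N.normalizerMonoidHom ⟨s, hsN.2⟩ with hcdef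
  have hc : c ∈ d.F.autGroup N :=
    autInducedBy_le_autGroup d.F hNS (mem_autInducedBy.2 ⟨s, hs, fun _ => rfl⟩)
  set η := ν * c * ν⁻¹ * c⁻¹ with hηdef
  have hη : η ∈ d.pull.autGroup N := by
    have h1 := d.congr_mem_pull hNU ((mem_autGroup d.F hNS).1 hc) ((d.pull.autGroup N).inv_mem hν)
    have h2 := mul_mem hν h1
    have e : ν * MulAut.congr c ν⁻¹ = η := by
      rw [hηdef, mul_assoc ν, mul_assoc ν]
      congr 1
    exact e ▸ h2
  -- on `Q` it is the commutator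
  have hrestr : ∀ x : Q, ((η (Subgroup.inclusion hQN x) : N) : Ω) =
      ((a * k * a⁻¹ * k⁻¹) x : Q) := by
    intro x
    have hb : ∀ (f : MulAut N) (g : MulAut Q),
        (∀ x : Q, (f (Subgroup.inclusion hQN x) : Ω) = g x) →
        ∀ x : Q, (f⁻¹ (Subgroup.inclusion hQN x) : Ω) = g⁻¹ x := by
      intro f g hfg x
      have e : f (Subgroup.inclusion hQN (g⁻¹ x)) = Subgroup.inclusion hQN x :=
        Subtype.ext ((hfg _).trans (congrArg Subtype.val (g.apply_symm_apply x)))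
      rw [← e, MulAut.inv_def, MulEquiv.symm_apply_apply]
      rfl
    have hm : ∀ (f f' : MulAut N) (g g' : MulAut Q),
        (∀ x : Q, (f (Subgroup.inclusion hQN x) : Ω) = g x) →
        (∀ x : Q, (f' (Subgroup.inclusion hQN x) : Ω) = g' x) →
        ∀ x : Q, ((f * f') (Subgroup.inclusion hQN x) : Ω) = (g * g') x := by
      intro f f' g g' hf hf' x
      rw [MulAut.mul_apply, MulAut.mul_apply, ← hf (g' x)]
      exact congrArg (fun w => ((f w : N) : Ω)) (Subtype.ext (hf' x))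
    have hνa : ∀ x : Q, (ν (Subgroup.inclusion hQN x) : Ω) = a x := fun x => rfl
    have hck : ∀ x : Q, (c (Subgroup.inclusion hQN x) : Ω) = k x := fun x => (hsk x).symm
    exact hm _ _ _ _ (hm _ _ _ _ (hm _ _ _ _ hνa hck) (hb _ _ hνa)) (hb _ _ hck) x
  have hKη : a * k * a⁻¹ * k⁻¹ ∈ d.K Q :=
    mul_mem (d.conj_mem_K hQS (toIso_mem_autGroup d.F _ hrQ) hk) ((d.K Q).inv_mem hk)
  obtain ⟨z, -, hz⟩ := d.exists_inner_mul_K hQ hQN hNU hη fun x hx => by
    rw [show x = Subgroup.inclusion hQN ⟨x, hx⟩ from rfl, hrestr]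
    exact hKη.2 _
  haveI := inn_normal N
  set q := QuotientGroup.mk' (Inn N)
  have hqη : q η = q ((MulAut.conj z)⁻¹ * η) := by
    rw [map_mul q (MulAut.conj z)⁻¹ η, map_inv q, show q (MulAut.conj z) = 1 from (QuotientGroup.eq_one_iff _).2 ⟨z, rfl⟩,
      inv_one, one_mul]
  have hcomm : q ν * q η = q η * q ν := by
    rw [hqη]
    exact commInn_iff.1 (hCK ν hν _ hz)
  have hstep : q ν * q c * (q ν)⁻¹ = q η * q c := by
    rw [hηdef]
    simp only [map_mul, map_inv]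
    group
  have hit : ∀ i : ℕ, q ν ^ i * q c * (q ν ^ i)⁻¹ = q η ^ i * q c := by
    intro i
    induction i with
    | zero => simp
    | succ i ih =>
      have hci : Commute (q ν) (q η ^ i) := Commute.pow_right hcomm i
      calc q ν ^ (i + 1) * q c * (q ν ^ (i + 1))⁻¹
          = q ν * (q ν ^ i * q c * (q ν ^ i)⁻¹) * (q ν)⁻¹ := by
            rw [pow_succ']; group
        _ = q ν * q η ^ i * q c * (q ν)⁻¹ := by rw [ih]; group
        _ = q η ^ i * (q ν * q c * (q ν)⁻¹) := by rw [hci.eq]; group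
        _ = q η ^ (i + 1) * q c := by rw [hstep, pow_succ]; group
  have h1 : q η ^ orderOf ν = 1 := by
    have h := hit (orderOf ν)
    rw [← map_pow, pow_orderOf_eq_one, map_one, one_mul, inv_one, mul_one] at h
    exact right_eq_mul.1 h
  obtain ⟨i, hi⟩ := d.isPGroup_K hNS ⟨_, hz⟩
  have h2 : q η ^ p ^ i = 1 := by
    rw [hqη, ← map_pow, show ((MulAut.conj z)⁻¹ * η) ^ p ^ i = 1 from congrArg Subtype.val hi,
      map_one]
  obtain ⟨w, hw⟩ := (QuotientGroup.eq_one_iff η).1 (coprime_trivial hνo h1 h2)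
  have hwQ : (w : Ω) ∈ Q := by
    refine hQ.mem_of_centralizes (hNU w.2) fun x hx => ?_
    have h := hKη.2 ⟨x, hx⟩
    rw [← hrestr ⟨x, hx⟩, ← hw] at h
    have h' : d.π ((w : Ω) * x * (w : Ω)⁻¹) = d.π x := h
    rw [d.π_conj (hNS w.2) (hQS hx), mul_inv_eq_iff_eq_mul] at h'
    exact h'
  refine ⟨⟨w, hwQ⟩, MulEquiv.ext fun y => Subtype.ext ?_⟩
  refine Eq.trans ?_ (hrestr y)
  rw [← hw]
  rfl

/-- The pullback centralizes the kernel modulo inner automorphisms, at a fully normalized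
subgroup. -/
theorem ck_of_fn {Q : Subgroup Ω} (hQ : d.Hc Q) (hn : d.F.IsFullyNormalized Q)
    (ih : ∀ R, R ≤ d.U → Nat.card Q < Nat.card R → d.Hc R → d.CK R) : d.CK Q := by
  have hQS := hQ.le_S
  have := d.finite_S'
  have := d.finite_V
  have := d.finite_U
  have hE := d.saturated_E
  have hEfn := d.fullyNormalized_img hn hQ.1
  have hBfn : d.B.IsFullyNormalized (d.img Q) :=
    tfn_fullyNormalized d.inv_B.1 (d.tfn_img (d.tfn_of_fn hn hQ.2.1) hQ.1)
  obtain ⟨-, hBa⟩ := saturated_fullyNormalized d.pgroup_V d.saturated_B hBfn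
  have hK : ∀ k ∈ d.K Q, ∃ s ∈ S, ∀ x : Q, (k x : Ω) = s * x * s⁻¹ := by
    intro k hk
    obtain ⟨χ, hχ, h⟩ := exists_conj_le_autInducedBy (saturated_fullyNormalized d.hS d.hF hn).2
      (d.isPGroup_K hQS) fun a ha => ha.1
    have h1 := d.conj_mem_K hQS ((d.F.autGroup Q).inv_mem hχ) hk
    have h2 := h _ h1
    rw [inv_inv, show χ * (χ⁻¹ * k * χ) * χ⁻¹ = k by group] at h2
    exact mem_autInducedBy.1 h2
  let I : Subgroup (MulAut (d.img Q)) :=
    { carrier := {b | ∃ a, a ∈ d.centK Q ∧ a ∈ d.pull.autGroup Q ∧ d.Over a b}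
      one_mem' := ⟨1, one_mem _, one_mem _, Over.one⟩
      mul_mem' := fun {b b'} ⟨a, h1, h2, h3⟩ ⟨a', h1', h2', h3'⟩ =>
        ⟨a * a', mul_mem h1 h1', mul_mem h2 h2', h3.mul hQS h3'⟩
      inv_mem' := fun {b} ⟨a, h1, h2, h3⟩ =>
        ⟨a⁻¹, (d.centK Q).inv_mem h1, (d.pull.autGroup Q).inv_mem h2, h3.inv hQS⟩ }
  suffices hI : d.B.autGroup (d.img Q) ≤ I by
    intro a ha k hk
    obtain ⟨haF, b, hb, hab⟩ := (d.mem_pull_aut hQ.2.1).1 ha
    obtain ⟨a', h1, h2, h3⟩ := hI hb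
    have hk' : a'⁻¹ * a ∈ d.centK Q := by
      have hmem := h3.mem_K hQS ((d.mem_pull_aut hQ.2.1).1 h2).1 haF hab
      refine d.mem_centK.2 fun l hl => ?_
      show _ ∈ Inn Q
      rw [d.K_comm hQS hmem hl, mul_inv_cancel_right, mul_inv_cancel]
      exact one_mem _
    have h4 := mul_mem h1 hk'
    rw [mul_inv_cancel_left] at h4
    exact d.mem_centK.1 h4 k hk
  have hAutV : autInducedBy V (d.img Q) ≤ I := by
    intro b hb
    obtain ⟨v, hv, hvb⟩ := mem_autInducedBy.1 hb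
    obtain ⟨u, hu, huv⟩ := d.π_surj (d.V_le hv)
    have huN : u ∈ normalizerIn S Q :=
      d.mem_normalizer_of_π hQ.1 hQS hu (huv.symm ▸ mem_normalizer_of_conj_eq b hvb)
    have huU : u ∈ d.U := d.mem_U.2 ⟨hu, huv.symm ▸ hv⟩
    have hau : Q.normalizerMonoidHom ⟨u, huN.2⟩ ∈ autInducedBy d.U Q :=
      mem_autInducedBy.2 ⟨u, huU, fun _ => rfl⟩
    refine ⟨_, d.centK_of_autU hQ hK hau, d.autU_le_pull hQ.2.1 hau, fun x h => ?_⟩
    rw [hvb, ← huv]
    exact (d.π_conj hu (hQS x.2)).symm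
  by_cases hV : d.img Q = V
  · intro b hb
    obtain ⟨β, hβ, hβT, hβC⟩ := d.hB.2 _ (autCongr_mem d.B
      (e := MulEquiv.subgroupCongr hV) (mem_hom_congr d.B (subtype_mem d.B hV.le) fun _ => rfl) hb)
    have hle : d.img Q ⊔ centralizerIn S' (d.img Q) ≤ V ⊔ centralizerIn S' V := by rw [hV]
    have hWS : d.img Q ⊔ centralizerIn S' (d.img Q) ≤ S' :=
      sup_le (d.img_le Q) (centralizerIn_le _)
    refine d.exists_centK_of_lift hQ hK hWS le_sup_left le_sup_right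
      (restr_mem d.E hle (autGroup_mem_hom d.E (sup_le d.V_le (centralizerIn_le V)) hβ)) hb
      (fun y => ?_) fun c hc => ?_
    · exact hβT ⟨y, hV.le y.2⟩
    · exact hV.ge (hβC (Subgroup.inclusion hle c) ((congrArg (centralizerIn S') hV).le hc)).1
  have hlt : Q < d.U := lt_of_le_of_ne hQ.2.1 fun e => hV (by rw [e]; exact d.img_pre d.V_le)
  have hNlt : Nat.card Q < Nat.card (normalizerIn d.U Q) :=
    card_lt_of_lt (normalizerIn_le Q) (lt_normalizerIn (d.hS.to_le d.U_le) hlt)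
  have hCKN := ih _ (normalizerIn_le Q) hNlt
    (hQ.mono (le_normalizerIn hQ.2.1) (normalizerIn_le Q))
  have hO : pElemGroup d.B p (d.img Q) ≤ I := fun b hb => by
    obtain ⟨A, hA, hAb, hAm⟩ :=
      pElem_le_goodLift d.pgroup_S' hE d.inv_B d.saturated_B hEfn hQ.2.2 hb
    have hWS : (d.img Q) ⊔ centralizerIn S' (d.img Q) ≤ S' := sup_le (d.img_le Q) (centralizerIn_le _)
    exact d.exists_centK_of_lift hQ hK hWS le_sup_left le_sup_right
      (autGroup_mem_hom d.E hWS hA) (pElemGroup_le_autGroup d.B (d.img Q) hb) hAb fun c _ => hAm c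
  have hsyl : SylIn p (autInducedBy V (d.img Q)) (d.B.autGroup (d.img Q)) :=
    ⟨autInducedBy_le_autGroup d.B (d.img_le_V hQ.2.1), hBa.2⟩
  have hVP := d.img_le_V hQ.2.1
  have : Finite (d.img Q) := finite_of_le ‹_› hVP
  have hnorm : ∀ g ∈ d.B.autGroup (d.img Q), ∀ k ∈ pElemGroup d.B p (d.img Q),
      g * k * g⁻¹ ∈ pElemGroup d.B p (d.img Q) := fun g hg k hk => by
    have h := autCongr_mem_pElemGroup d.B ((mem_autGroup d.B hVP).1 hg) hk
    have e : MulAut.congr (g : (d.img Q) ≃* (d.img Q)) k = g * k * g⁻¹ := by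
      ext x
      simp [autCongr_apply, MulAut.inv_def]
    rwa [e] at h
  set A := autInducedBy V (d.img Q)
  set M := d.B.autGroup (d.img Q) ⊓ Subgroup.normalizer (A : Set (MulAut (d.img Q)))
  have hsylM : SylIn p A M :=
    sylIn_of_le hsyl (le_inf hsyl.le Subgroup.le_normalizer) inf_le_left
  have hM : M ≤ I := le_of_sylow_pprime hsylM hAutV fun n hnM ho =>
    d.centK_of_normalizing hQ hK hBfn hCKN hnM.1 ho hnM.2
  have hAp : A ≤ pElemGroup d.B p (d.img Q) := fun c hc => by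
    refine ⟨⟨c, hsyl.le hc⟩, Subgroup.subset_closure ?_, rfl⟩
    obtain ⟨m, hm⟩ := hsyl.isPGroup ⟨c, hc⟩
    obtain ⟨j, -, hj⟩ :=
      (Nat.dvd_prime_pow (Fact.out : p.Prime)).1 (orderOf_dvd_of_pow_eq_one hm)
    refine ⟨j, ?_⟩
    rw [Subgroup.orderOf_mk]
    rwa [Subgroup.orderOf_mk] at hj
  have hsylO : SylIn p A (pElemGroup d.B p (d.img Q)) :=
    sylIn_of_le hsyl hAp (pElemGroup_le_autGroup d.B (d.img Q))
  intro b hb
  obtain ⟨k, hk, hkb⟩ := hsylO.frattini (hnorm b hb)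
  have hkbM : k * b ∈ M := ⟨mul_mem (pElemGroup_le_autGroup d.B (d.img Q) hk) hb, by
    show _ ∈ Subgroup.normalizer _
    rw [Subgroup.mem_normalizer_iff]
    intro c
    refine ⟨fun hc => hkb c hc, fun hc => ?_⟩
    have : Finite A := Finite.of_injective _ Subtype.val_injective
    let f : A → A := fun z => ⟨_, hkb z z.2⟩
    have hf : Function.Injective f := fun x y h =>
      Subtype.ext (mul_left_cancel (mul_right_cancel (congrArg Subtype.val h)))
    obtain ⟨⟨c', hc'⟩, he⟩ := Finite.injective_iff_surjective.1 hf ⟨_, hc⟩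
    have h' : k * b * c' * (k * b)⁻¹ = k * b * c * (k * b)⁻¹ := congrArg Subtype.val he
    rw [mul_left_cancel (mul_right_cancel h')] at hc'
    exact hc'⟩
  have := mul_mem (I.inv_mem (hO hk)) (hM hkbM)
  rwa [inv_mul_cancel_left] at this

/-- The pullback centralizes the kernel modulo inner automorphisms. -/
theorem ck_of_hc {Q : Subgroup Ω} (hQ : d.Hc Q) : d.CK Q := by
  have := d.finite_U
  revert hQ
  refine fun hQ => downward_induction (S := d.U) (motive := fun Q => d.Hc Q → d.CK Q)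
    (fun P hPU ih hP => ?_) hQ.2.1 hQ
  obtain ⟨R, hPR, hR⟩ := exists_fullyNormalized d.F hP.le_S
  obtain ⟨e, he⟩ := (isConj_iff_exists_iso d.F).1 hPR
  have hcard := isConj_card_eq hPR
  exact d.ck_congr (d.le_of_iso he hPU) he
    (d.ck_of_fn (hP.congr he) hR fun Y hY hlt hY' => ih Y hY (hcard ▸ hlt) hY')

end CentralData

end Cfsg.Agent.FusionAlperin
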