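import Cfsg.Agent.FusionAlperin.Pullback.Local

/-!
The generated subsystem of the pullback, and extensions of the elements of the local groups.
-/

set_option autoImplicit false
set_option linter.unusedSectionVars false

open Cfsg Cfsg.FusionSystem
open Cfsg.Agent.FusionSys

namespace Cfsg.Agent.FusionAlperin

/-- Conjugate of a subgroup of an automorphism group. -/
def conjA {G : Type*} [Group G] (a : G) (A : Subgroup G) : Subgroup G :=
  A.map (MulAut.conj a).toMonoidHom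

theorem mem_conjA {G : Type*} [Group G] {a x : G} {A : Subgroup G} :
    x ∈ conjA a A ↔ a⁻¹ * x * a ∈ A := by
  constructor
  · rintro ⟨y, hy, rfl⟩
    simpa [mul_assoc] using hy
  · exact fun h => ⟨_, h, by simp [mul_assoc]⟩

theorem conjA_mem {G : Type*} [Group G] {a x : G} {A : Subgroup G} (h : x ∈ A) :
    a * x * a⁻¹ ∈ conjA a A :=
  ⟨x, h, rfl⟩

theorem conjA_conjA {G : Type*} [Group G] (a b : G) (A : Subgroup G) :
    conjA a (conjA b A) = conjA (a * b) A := by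
  ext x
  simp only [mem_conjA, mul_inv_rev, mul_assoc]

theorem conjA_one {G : Type*} [Group G] (A : Subgroup G) : conjA 1 A = A := by
  ext x
  simp [mem_conjA]

theorem conjA_eq_of_mem_normalizer {G : Type*} [Group G] {a : G} {A : Subgroup G}
    (h : a ∈ Subgroup.normalizer (A : Set G)) : conjA a A = A := by
  ext x
  rw [mem_conjA]
  have := Subgroup.mem_normalizer_iff.1 (Subgroup.inv_mem _ h) x
  rw [inv_inv] at this
  exact this.symm

theorem mem_normalizer_of_conjA_eq {G : Type*} [Group G] {a : G} {A : Subgroup G}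
    (h : conjA a A = A) : a ∈ Subgroup.normalizer (A : Set G) := by
  rw [Subgroup.mem_normalizer_iff]
  intro x
  refine ⟨fun hx => h.le (conjA_mem hx), fun hx => ?_⟩
  have h2 : a * x * a⁻¹ ∈ conjA a A := h.ge hx
  rw [mem_conjA] at h2
  simpa [mul_assoc] using h2

theorem card_conjA {G : Type*} [Group G] (a : G) (A : Subgroup G) :
    Nat.card (conjA a A) = Nat.card A :=
  (Nat.card_congr ((MulAut.conj a).subgroupMap A).toEquiv).symm

namespace CentralData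

variable {Ω : Type*} [Group Ω] {Ω' : Type*} [Group Ω'] {S : Subgroup Ω} {S' V : Subgroup Ω'}
  {p : ℕ} (d : CentralData S S' V p) [Finite S] [Fact p.Prime]

/-- A system over `U` containing all the generators. -/
def ContainsGen (G : FusionSystem d.U) : Prop := ∀ Q, d.Hc Q → d.ppSet Q ⊆ G.autGroup Q

/-- The subsystem of the pullback generated by its automorphisms of order prime to `p`. -/
def gen : FusionSystem d.U where
  Hom P := {φ | φ ∈ d.pull.Hom P ∧ ∀ G : FusionSystem d.U, d.ContainsGen G → φ ∈ G.Hom P}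
  le_of_mem h := d.pull.le_of_mem h.1
  injective_of_mem h := d.pull.injective_of_mem h.1
  conj_mem hP hg := ⟨d.pull.conj_mem hP hg, fun G _ => G.conj_mem hP hg⟩
  comp_mem hφ hψ h :=
    ⟨d.pull.comp_mem hφ.1 hψ.1 h, fun G hG => G.comp_mem (hφ.2 G hG) (hψ.2 G hG) h⟩
  inv_mem := by
    rintro P φ ⟨hφ, hG⟩
    obtain ⟨ψ, hψ, he⟩ := d.pull.inv_mem hφ
    refine ⟨ψ, ⟨hψ, fun G h => ?_⟩, he⟩
    obtain ⟨ψ', hψ', he'⟩ := G.inv_mem (hG G h)
    refine mem_hom_congr G hψ' ?_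
    rintro ⟨_, x, rfl⟩
    exact (he x).trans (he' x).symm

theorem gen_sub_pull : d.gen.IsSubsystemOf d.pull := fun _ _ h => h.1

theorem gen_sub : d.gen.IsSubsystemOf d.F := fun _ _ h => h.1.1

theorem gen_le {G : FusionSystem d.U} (hG : d.ContainsGen G) : d.gen ≤ G := fun _ _ h => h.2 G hG

theorem gen_containsGen : d.ContainsGen d.gen := fun Q hQ a ha =>
  (mem_autGroup d.gen hQ.2.1).2 ⟨autGroup_mem_hom d.pull hQ.2.1 ha.1,
    fun G hG => autGroup_mem_hom G hQ.2.1 (hG Q hQ ha)⟩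

theorem loc_le_gen {Q : Subgroup Ω} (hQ : d.Hc Q) : d.loc Q ≤ d.gen.autGroup Q :=
  sup_le (autInducedBy_le_autGroup d.gen hQ.2.1)
    ((Subgroup.closure_le _).2 (d.gen_containsGen Q hQ))

/-- The elements of `N_U(Q)` inducing elements of `A`. -/
def preAut (Q : Subgroup Ω) (A : Subgroup (MulAut Q)) : Subgroup Ω :=
  d.U ⊓ (A.comap Q.normalizerMonoidHom).map (Subgroup.normalizer (Q : Set Ω)).subtype

theorem mem_preAut {Q : Subgroup Ω} {A : Subgroup (MulAut Q)} {u : Ω} :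
    u ∈ d.preAut Q A ↔
      u ∈ d.U ∧ ∃ h : u ∈ Subgroup.normalizer (Q : Set Ω), Q.normalizerMonoidHom ⟨u, h⟩ ∈ A := by
  constructor
  · rintro ⟨hu, w, hw, rfl⟩
    exact ⟨hu, w.2, hw⟩
  · rintro ⟨hu, h, h'⟩
    exact ⟨hu, ⟨u, h⟩, h', rfl⟩

theorem preAut_le {Q : Subgroup Ω} (A : Subgroup (MulAut Q)) :
    d.preAut Q A ≤ normalizerIn d.U Q := fun _ hu =>
  ⟨(d.mem_preAut.1 hu).1, (d.mem_preAut.1 hu).2.1⟩

theorem le_preAut {Q : Subgroup Ω} (hQ : Q ≤ d.U) {A : Subgroup (MulAut Q)} (hA : Inn Q ≤ A) :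
    Q ≤ d.preAut Q A := fun q hq =>
  d.mem_preAut.2 ⟨hQ hq, Subgroup.le_normalizer hq,
    hA ⟨⟨q, hq⟩, MulEquiv.ext fun _ => Subtype.ext rfl⟩⟩

theorem preAut_autInducedBy {Q X : Subgroup Ω} (hQ : d.Hc Q) (hQX : Q ≤ X)
    (hX : X ≤ normalizerIn d.U Q) : d.preAut Q (autInducedBy X Q) = X := by
  ext u
  rw [d.mem_preAut]
  constructor
  · rintro ⟨hu, h, hmem⟩
    obtain ⟨x, hx, hxe⟩ := mem_autInducedBy.1 hmem
    have hz : x⁻¹ * u ∈ Q := by
      refine hQ.centralizer_le (mem_centralizerIn_iff_conj.2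
        ⟨d.U.mul_mem (d.U.inv_mem (hX hx).1) hu, fun y => ?_⟩)
      have e : u * (y : Ω) * u⁻¹ = x * y * x⁻¹ := hxe y
      calc x⁻¹ * u * (y : Ω) * (x⁻¹ * u)⁻¹ = x⁻¹ * (u * (y : Ω) * u⁻¹) * x := by group
        _ = y := by rw [e]; group
    have := X.mul_mem hx (hQX hz)
    rwa [mul_inv_cancel_left] at this
  · intro hu
    exact ⟨(hX hu).1, (hX hu).2, mem_autInducedBy.2 ⟨u, hu, fun _ => rfl⟩⟩

/-- `a` extends to `preAut Q A` in the generated system. -/
def Extends (Q : Subgroup Ω) (a : MulAut Q) (A : Subgroup (MulAut Q)) : Prop :=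
  ∃ Λ ∈ d.gen.Hom (d.preAut Q A), ∀ (y : Q) (h : (y : Ω) ∈ d.preAut Q A), Λ ⟨y, h⟩ = a y

variable {d}

theorem extends_apply {Q : Subgroup Ω} (hQ : Q ≤ d.U) {a : MulAut Q} {A : Subgroup (MulAut Q)}
    (hA : Inn Q ≤ A) {Λ : d.preAut Q A →* Ω}
    (he : ∀ (y : Q) (h : (y : Ω) ∈ d.preAut Q A), Λ ⟨y, h⟩ = a y) (u : d.preAut Q A)
    (hn : (u : Ω) ∈ Subgroup.normalizer (Q : Set Ω)) (y : Q) :
    Λ u * (y : Ω) * (Λ u)⁻¹ = ((a * Q.normalizerMonoidHom ⟨u, hn⟩ * a⁻¹) y : Q) := by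
  obtain ⟨x, rfl⟩ := a.surjective y
  simp only [MulAut.mul_apply, MulAut.inv_def, MulEquiv.symm_apply_apply]
  have hle := d.le_preAut hQ hA
  rw [← he x (hle x.2), ← he _ (hle (Subtype.mem _)), ← map_inv, ← map_mul, ← map_mul]
  exact congrArg Λ (Subtype.ext rfl)

theorem extends_range {Q : Subgroup Ω} (hQ : d.Hc Q) {a : MulAut Q} {A : Subgroup (MulAut Q)}
    (hA : Inn Q ≤ A) (hAU : A ≤ autInducedBy d.U Q) {Λ : d.preAut Q A →* Ω}
    (hΛ : Λ ∈ d.gen.Hom (d.preAut Q A))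
    (he : ∀ (y : Q) (h : (y : Ω) ∈ d.preAut Q A), Λ ⟨y, h⟩ = a y) :
    Λ.range = d.preAut Q (conjA a A) := by
  have hle := d.le_preAut hQ.2.1 hA
  have hval : ∀ u : d.preAut Q A, ∃ h : Λ u ∈ Subgroup.normalizer (Q : Set Ω),
      Q.normalizerMonoidHom ⟨Λ u, h⟩ =
        a * Q.normalizerMonoidHom ⟨u, (d.mem_preAut.1 u.2).2.1⟩ * a⁻¹ := by
    intro u
    have hc := fun y => (extends_apply hQ.2.1 hA he u (d.mem_preAut.1 u.2).2.1 y).symm
    exact ⟨mem_normalizer_of_conj_eq _ hc, MulEquiv.ext fun y => Subtype.ext (hc y).symm⟩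
  refine le_antisymm ?_ fun w hw => ?_
  · rintro _ ⟨u, rfl⟩
    obtain ⟨h, he'⟩ := hval u
    refine d.mem_preAut.2 ⟨map_mem_S d.gen hΛ u, h, ?_⟩
    rw [he']
    exact conjA_mem (d.mem_preAut.1 u.2).2.2
  · obtain ⟨hwU, hwN, hwA⟩ := d.mem_preAut.1 hw
    rw [mem_conjA] at hwA
    obtain ⟨v, hv, hve⟩ := mem_autInducedBy.1 (hAU hwA)
    have hvN : v ∈ Subgroup.normalizer (Q : Set Ω) := mem_normalizer_of_conj_eq _ hve
    have hveq : Q.normalizerMonoidHom ⟨v, hvN⟩ = a⁻¹ * Q.normalizerMonoidHom ⟨w, hwN⟩ * a :=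
      MulEquiv.ext fun y => Subtype.ext (hve y).symm
    have hvA : v ∈ d.preAut Q A := d.mem_preAut.2 ⟨hv, hvN, hveq.symm ▸ hwA⟩
    have hc := fun y => extends_apply hQ.2.1 hA he ⟨v, hvA⟩ hvN y
    have hz : (Λ ⟨v, hvA⟩)⁻¹ * w ∈ Q := by
      refine hQ.centralizer_le (mem_centralizerIn_iff_conj.2
        ⟨d.U.mul_mem (d.U.inv_mem (map_mem_S d.gen hΛ _)) hwU, fun y => ?_⟩)
      have e : Λ ⟨v, hvA⟩ * (y : Ω) * (Λ ⟨v, hvA⟩)⁻¹ = w * (y : Ω) * w⁻¹ := by
        rw [hc y, hveq, show a * (a⁻¹ * Q.normalizerMonoidHom ⟨w, hwN⟩ * a) * a⁻¹ =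
          Q.normalizerMonoidHom ⟨w, hwN⟩ by group]
        rfl
      calc (Λ ⟨v, hvA⟩)⁻¹ * w * (y : Ω) * ((Λ ⟨v, hvA⟩)⁻¹ * w)⁻¹
          = (Λ ⟨v, hvA⟩)⁻¹ * (w * (y : Ω) * w⁻¹) * Λ ⟨v, hvA⟩ := by group
        _ = y := by rw [← e]; group
    obtain ⟨q, hq⟩ := a.surjective ⟨_, hz⟩
    refine ⟨⟨v, hvA⟩ * ⟨q, hle q.2⟩, ?_⟩
    rw [map_mul, he q, hq, mul_inv_cancel_left]

theorem extends_mono {Q : Subgroup Ω} {a : MulAut Q} {A A' : Subgroup (MulAut Q)}
    (h : d.Extends Q a A) (hA : A' ≤ A) : d.Extends Q a A' := by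
  obtain ⟨Λ, hΛ, he⟩ := h
  have hle : d.preAut Q A' ≤ d.preAut Q A := fun u hu => by
    obtain ⟨h1, h2, h3⟩ := d.mem_preAut.1 hu
    exact d.mem_preAut.2 ⟨h1, h2, hA h3⟩
  exact ⟨restr hle Λ, restr_mem d.gen hle hΛ, fun y h => he y (hle h)⟩

theorem extends_comp {Q : Subgroup Ω} (hQ : d.Hc Q) {a b : MulAut Q} {A : Subgroup (MulAut Q)}
    (hA : Inn Q ≤ A) (hAU : A ≤ autInducedBy d.U Q) (ha : d.Extends Q a A)
    (hb : d.Extends Q b (conjA a A)) : d.Extends Q (b * a) A := by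
  obtain ⟨Λ, hΛ, he⟩ := ha
  obtain ⟨Λ', hΛ', he'⟩ := hb
  have hv : ∀ u, Λ u ∈ d.preAut Q (conjA a A) := fun u =>
    (extends_range hQ hA hAU hΛ he).le ⟨u, rfl⟩
  refine ⟨_, d.gen.comp_mem hΛ hΛ' hv, fun y h => ?_⟩
  show Λ' ⟨Λ ⟨y, h⟩, hv _⟩ = b (a y)
  have h2 : ((a y : Q) : Ω) ∈ d.preAut Q (conjA a A) := he y h ▸ hv ⟨y, h⟩
  exact (congrArg Λ' (Subtype.ext (he y h))).trans (he' (a y) h2)

theorem extends_inv {Q : Subgroup Ω} (hQ : d.Hc Q) {a : MulAut Q} {A : Subgroup (MulAut Q)}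
    (hA : Inn Q ≤ A) (hAU : A ≤ autInducedBy d.U Q) (ha : d.Extends Q a A) :
    d.Extends Q a⁻¹ (conjA a A) := by
  obtain ⟨Λ, hΛ, he⟩ := ha
  obtain ⟨Λ', hΛ', he'⟩ := d.gen.inv_mem hΛ
  have hr := (extends_range hQ hA hAU hΛ he).ge
  refine ⟨restr hr Λ', restr_mem d.gen hr hΛ', fun y h => ?_⟩
  have hy : ((a⁻¹ y : Q) : Ω) ∈ d.preAut Q A := d.le_preAut hQ.2.1 hA (a⁻¹ y).2
  rw [restr_apply]
  refine Eq.trans (congrArg Λ' (Subtype.ext ?_)) (he' ⟨_, hy⟩)
  show (y : Ω) = Λ ⟨_, hy⟩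
  rw [he, show a (a⁻¹ y) = y from a.apply_symm_apply y]

theorem extends_of_autU {Q : Subgroup Ω} {a : MulAut Q} (ha : a ∈ autInducedBy d.U Q)
    (A : Subgroup (MulAut Q)) : d.Extends Q a A := by
  obtain ⟨u, hu, hua⟩ := mem_autInducedBy.1 ha
  exact ⟨_, d.gen.conj_mem ((d.preAut_le A).trans (normalizerIn_le Q)) hu, fun y _ => (hua y).symm⟩

variable (d)

theorem conjA_inn {Q : Subgroup Ω} (a : MulAut Q) {A : Subgroup (MulAut Q)} (hA : Inn Q ≤ A) :
    Inn Q ≤ conjA a A := fun c hc => mem_conjA.2 (hA (by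
      have := (inn_normal Q).conj_mem c hc a⁻¹
      simpa using this))

/-- An element of order prime to `p` normalizing `A` extends. -/
theorem extends_pp {Q : Subgroup Ω} (hQ : d.Hc Q) (ht : TFN d.F d.U Q)
    {A : Subgroup (MulAut Q)} (hA : Inn Q ≤ A) (hAU : A ≤ autInducedBy d.U Q) {n : MulAut Q}
    (hn : n ∈ d.pull.autGroup Q) (ho : Nat.Coprime (orderOf n) p)
    (hnA : n ∈ Subgroup.normalizer (A : Set (MulAut Q))) : d.Extends Q n A := by
  have hQU := hQ.2.1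
  have hQS := hQ.le_S
  have := d.finite_V
  have : Finite Q := finite_of_le ‹_› hQS
  set X := d.preAut Q A with hXdef
  have hXN := d.preAut_le (Q := Q) A
  have hXU : X ≤ d.U := hXN.trans (normalizerIn_le Q)
  have hXS := hXU.trans d.U_le
  have : Finite X := finite_of_le ‹_› hXS
  have hQX : Q ≤ X := d.le_preAut hQU hA
  have hXc := hQ.mono hQX hXU
  obtain ⟨hnF, b, hb, hnb⟩ := (d.mem_pull_aut hQU).1 hn
  have hbo : Nat.Coprime (orderOf b) p := by
    refine Nat.Coprime.coprime_dvd_left (orderOf_dvd_of_pow_eq_one ?_) ho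
    have h := hnb.pow hQS (orderOf n)
    rw [pow_orderOf_eq_one] at h
    exact h.unique hQS Over.one
  have hX'N : d.img X ≤ normalizerIn V (d.img Q) := by
    intro y hy
    obtain ⟨x, hx, rfl⟩ := (d.mem_img hXS).1 hy
    exact ⟨(d.mem_U.1 (hXU hx)).2, d.mem_normalizer_img hQS ⟨hXS hx, (hXN hx).2⟩⟩
  have hQ'X : d.img Q ≤ d.img X := d.img_mono hQX
  have hBfn : d.B.IsFullyNormalized (d.img Q) :=
    tfn_fullyNormalized d.inv_B.1 (d.tfn_img ht hQ.1)
  have himg : ∀ x ∈ X, ∃ x' ∈ X, ∀ y : d.img Q, ∀ hN : d.π x ∈ Subgroup.normalizer (d.img Q : Set Ω'),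
      ((b * (d.img Q).normalizerMonoidHom ⟨d.π x, hN⟩ * b⁻¹) y : Ω') =
        d.π x' * y * (d.π x')⁻¹ := by
    intro x hx
    obtain ⟨hxU, hxN, hxA⟩ := d.mem_preAut.1 hx
    have hA' := (Subgroup.mem_normalizer_iff.1 hnA _).1 hxA
    obtain ⟨x', hx', hxe⟩ := mem_autInducedBy.1 (hAU hA')
    have hx'N : x' ∈ normalizerIn S Q := ⟨d.U_le hx', mem_normalizer_of_conj_eq _ hxe⟩
    have e : Q.normalizerMonoidHom ⟨x', hx'N.2⟩ =
        n * Q.normalizerMonoidHom ⟨x, hxN⟩ * n⁻¹ :=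
      MulEquiv.ext fun y => Subtype.ext (hxe y).symm
    refine ⟨x', d.mem_preAut.2 ⟨hx', hx'N.2, e.symm ▸ hA'⟩, fun y hN => ?_⟩
    have h1 := ((hnb.mul hQS (Over.conjNormal hQS ⟨hXS hx, hxN⟩)).mul hQS (hnb.inv hQS))
    rw [← e] at h1
    rw [h1.unique hQS (Over.conjNormal hQS hx'N)]
    rfl
  obtain ⟨ψ', hψ', hψe⟩ := exists_ext_aut'
    (saturated_fullyCentralized d.pgroup_V d.saturated_B
      (saturated_fullyNormalized d.pgroup_V d.saturated_B hBfn).1) hb hQ'X hX'N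
    fun g hg => by
      obtain ⟨x, hx, rfl⟩ := (d.mem_img hXS).1 hg
      obtain ⟨x', hx', hxe⟩ := himg x hx
      exact ⟨⟨d.π x, (hX'N hg).2⟩, mem_autInducedBy.2 ⟨d.π x', (d.mem_U.1 (hXU hx')).2,
        fun y => hxe y _⟩, rfl⟩
  have : Finite (d.img X) := finite_of_le ‹_› (d.img_le_V hXU)
  have hr : ψ'.range = d.img X := by
    refine range_eq_of_image_le (d.B.injective_of_mem hψ') ?_ le_rfl
    rintro _ ⟨⟨g, hg⟩, rfl⟩
    obtain ⟨x, hx, rfl⟩ := (d.mem_img hXS).1 hg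
    obtain ⟨x', hx', hxe⟩ := himg x hx
    set g₀ : d.img X := ⟨d.π x, hg⟩
    obtain ⟨w₀, hw₀, hw⟩ := d.π_surj (d.V_le (map_mem_S d.B hψ' g₀))
    have hwU : w₀ ∈ d.U := d.mem_U.2 ⟨hw₀, hw.symm ▸ map_mem_S d.B hψ' g₀⟩
    have hz : x'⁻¹ * w₀ ∈ Q := by
      refine hQ.mem_of_centralizes (d.U.mul_mem (d.U.inv_mem (hXU hx')) hwU) fun y hy => ?_
      have h1 := hxe ⟨d.π y, d.π_mem_img hQS hy⟩ (hX'N hg).2
      have h2 : ψ' g₀ * d.π y * (ψ' g₀)⁻¹ = ((b * (d.img Q).normalizerMonoidHom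
          ⟨d.π x, (hX'N hg).2⟩ * b⁻¹) ⟨d.π y, d.π_mem_img hQS hy⟩ : Ω') := by
        obtain ⟨z, hz⟩ := b.surjective ⟨d.π y, d.π_mem_img hQS hy⟩
        simp only [MulAut.mul_apply, MulAut.inv_def, ← hz, MulEquiv.symm_apply_apply]
        rw [show d.π y = (b z : Ω') from congrArg Subtype.val hz.symm, ← hψe, ← hψe, ← map_inv,
          ← map_mul, ← map_mul]
        exact congrArg ψ' (Subtype.ext rfl)
      rw [h1, ← hw] at h2
      rw [d.π_mul (S.inv_mem (hXS hx')) hw₀, d.π_inv (hXS hx')]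
      calc (d.π x')⁻¹ * d.π w₀ * d.π y
          = (d.π x')⁻¹ * (d.π w₀ * d.π y * (d.π w₀)⁻¹) * d.π w₀ := by group
        _ = d.π y * ((d.π x')⁻¹ * d.π w₀) := by rw [h2]; group
    rw [← hw]
    have := X.mul_mem hx' (hQX hz)
    rw [mul_inv_cancel_left] at this
    exact d.π_mem_img hXS this
  set Ψ₀ := toIso d.B hψ' hr
  obtain ⟨k₀, hk₀, hΨo⟩ := exists_pprime_pow Ψ₀ hbo
  have hΨe : ∀ y : d.img Q, ((Ψ₀ ^ k₀) (Subgroup.inclusion hQ'X y) : Ω') = b y := by
    intro y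
    have h0 : ∀ (i : ℕ) (y : d.img Q),
        ((Ψ₀ ^ i) (Subgroup.inclusion hQ'X y) : Ω') = (b ^ i) y := by
      intro i
      induction i with
      | zero => exact fun _ => rfl
      | succ i ih =>
        intro y
        rw [pow_succ', pow_succ', MulAut.mul_apply, MulAut.mul_apply]
        refine Eq.trans (congrArg (fun w => ((Ψ₀ w : d.img X) : Ω')) (Subtype.ext (ih y) :
          (Ψ₀ ^ i) (Subgroup.inclusion hQ'X y) = Subgroup.inclusion hQ'X ((b ^ i) y))) ?_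
        exact hψe _
    rw [h0 k₀ y]
    have : b ^ k₀ = b := by
      conv_rhs => rw [← pow_one b]
      exact pow_eq_pow_iff_modEq.2 hk₀
    rw [this]
  obtain ⟨ν, hν, hνo, hνΨ⟩ := d.exists_pprime_lift hXc.1 hXU
    (pow_mem (toIso_mem_autGroup d.B hψ' hr) k₀) hΨo
  have hνQ : ∀ x : Q, d.π (ν (Subgroup.inclusion hQX x) : X) =
      (b ⟨d.π x, d.π_mem_img hQS x.2⟩ : Ω') := fun x =>
    (hνΨ (Subgroup.inclusion hQX x) (d.π_mem_img hXS (hQX x.2))).symm.trans
      (hΨe ⟨d.π x, d.π_mem_img hQS x.2⟩)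
  have hνg := d.gen_containsGen X hXc ⟨hν, hνo⟩
  have hres := restr_mem d.gen hQX (autGroup_mem_hom d.gen hXU hνg)
  have hrQ : (restr hQX (X.subtype.comp ν.toMonoidHom)).range = Q :=
    range_eq_of_image_le (d.gen.injective_of_mem hres) (by
      rintro _ ⟨x, rfl⟩
      refine d.mem_of_π_mem hQ.1 hQS (hXS (ν _).2) ?_
      show d.π (ν (Subgroup.inclusion hQX x) : X) ∈ _
      rw [hνQ]
      exact Subtype.mem _) le_rfl
  set a := toIso d.gen hres hrQ
  have hag : a ∈ d.gen.autGroup Q := toIso_mem_autGroup d.gen hres hrQ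
  have hab : d.Over a b := fun x _ => (hνQ x).symm
  have haF : a ∈ d.F.autGroup Q :=
    (mem_autGroup d.F hQS).2 (d.gen_sub Q (autGroup_mem_hom d.gen hQU hag))
  have hao : Nat.Coprime (orderOf a) p := by
    refine Nat.Coprime.coprime_dvd_left (orderOf_dvd_of_pow_eq_one ?_) hνo
    have h0 : ∀ (i : ℕ) (y : Q), ((ν ^ i) (Subgroup.inclusion hQX y) : Ω) = (a ^ i) y := by
      intro i
      induction i with
      | zero => exact fun _ => rfl
      | succ i ih =>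
        intro y
        rw [pow_succ', pow_succ', MulAut.mul_apply, MulAut.mul_apply]
        exact congrArg (fun w => ((ν w : X) : Ω)) (Subtype.ext (ih y) :
          (ν ^ i) (Subgroup.inclusion hQX y) = Subgroup.inclusion hQX ((a ^ i) y))
    refine MulEquiv.ext fun y => Subtype.ext ?_
    rw [← h0, pow_orderOf_eq_one]
    rfl
  -- `n` and `a` differ by an inner automorphism
  have hk := hnb.mem_K hQS hnF haF hab
  haveI := inn_normal Q
  set q := QuotientGroup.mk' (Inn Q)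
  have hcomm : Commute (q n) (q (n⁻¹ * a)) := commInn_iff.1 (d.ck_of_hc hQ n hn _ hk)
  obtain ⟨i, hi⟩ := d.isPGroup_K hQS ⟨_, hk⟩
  have h1 : q (n⁻¹ * a) ^ (orderOf n * orderOf a) = 1 := by
    have h2 : q a ^ (orderOf n * orderOf a) = 1 := by
      rw [← map_pow, pow_mul', pow_orderOf_eq_one, one_pow, map_one]
    have h3 : q n ^ (orderOf n * orderOf a) = 1 := by
      rw [← map_pow, pow_mul, pow_orderOf_eq_one, one_pow, map_one]
    have e : q a = q n * q (n⁻¹ * a) := by rw [← map_mul, mul_inv_cancel_left]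
    rw [e, hcomm.mul_pow, h3, one_mul] at h2
    exact h2
  have h2 : q (n⁻¹ * a) ^ p ^ i = 1 := by
    rw [← map_pow, show (n⁻¹ * a) ^ p ^ i = 1 from congrArg Subtype.val hi, map_one]
  obtain ⟨z, hz⟩ := (QuotientGroup.eq_one_iff _).1
    (coprime_trivial (Nat.Coprime.mul ho hao) h1 h2)
  have hna : n = a * (MulAut.conj z)⁻¹ := by
    rw [hz]
    group
  have hnX : ∀ u, conjHom X (z : Ω)⁻¹ u ∈ X := fun u =>
    X.mul_mem (X.mul_mem (X.inv_mem (hQX z.2)) u.2) (X.inv_mem (X.inv_mem (hQX z.2)))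
  refine ⟨_, d.gen.comp_mem (d.gen.conj_mem hXU (hXU (X.inv_mem (hQX z.2))))
    (autGroup_mem_hom d.gen hXU hνg) hnX, fun y h => ?_⟩
  rw [hna, MulAut.mul_apply]
  show (ν ⟨(z : Ω)⁻¹ * (y : Ω) * ((z : Ω)⁻¹)⁻¹, _⟩ : Ω) = (ν (Subgroup.inclusion hQX _) : Ω)
  exact congrArg (fun w => ((ν w : X) : Ω)) (Subtype.ext (by simp [MulAut.inv_def, mul_assoc]))

/-- An element of the local group extends to the subgroup it carries into `Aut_U(Q)`. -/
theorem extends_loc {Q : Subgroup Ω} (hQ : d.Hc Q) (ht : TFN d.F d.U Q)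
    {A : Subgroup (MulAut Q)} (hA : Inn Q ≤ A) (hAU : A ≤ autInducedBy d.U Q) {a : MulAut Q}
    (ha : a ∈ d.loc Q) (haA : conjA a A ≤ autInducedBy d.U Q) : d.Extends Q a A := by
  have hQS := hQ.le_S
  have : Finite Q := finite_of_le ‹_› hQS
  set W := autInducedBy d.U Q
  set G := d.loc Q
  have hW : SylIn p W G := d.sylIn_loc hQ ht
  have hnc : ∀ B : Subgroup (MulAut Q), Inn Q ≤ B → B ≤ W →
      SylIn p (W ⊓ Subgroup.normalizer (B : Set (MulAut Q)))
        (G ⊓ Subgroup.normalizer (B : Set (MulAut Q))) →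
      ∀ m ∈ G ⊓ Subgroup.normalizer (B : Set (MulAut Q)), d.Extends Q m B := by
    intro B hB hBW hsyl
    let good : Subgroup (MulAut Q) :=
      { carrier := {m | m ∈ Subgroup.normalizer (B : Set (MulAut Q)) ∧ d.Extends Q m B}
        one_mem' := ⟨one_mem _, extends_of_autU (one_mem _) B⟩
        mul_mem' := fun {m m'} hm hm' => ⟨mul_mem hm.1 hm'.1,
          extends_comp hQ hB hBW hm'.2 ((conjA_eq_of_mem_normalizer hm'.1).symm ▸ hm.2)⟩
        inv_mem' := fun {m} hm => ⟨Subgroup.inv_mem _ hm.1, by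
          have := extends_inv hQ hB hBW hm.2
          rwa [conjA_eq_of_mem_normalizer hm.1] at this⟩ }
    intro m hm
    exact (le_of_sylow_pprime hsyl (K := good) (fun x hx => ⟨hx.2, extends_of_autU hx.1 B⟩)
      (fun x hx ho => ⟨hx.2, d.extends_pp hQ ht hB hBW (d.loc_le_pull hQ.2.1 hx.1) ho hx.2⟩)
      hm).2
  induction hd : Nat.card W - Nat.card A using Nat.strong_induction_on generalizing A a with
  | _ n IH =>
    have : Finite W := Finite.of_injective _ Subtype.val_injective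
    rcases eq_or_lt_of_le hAU with heq | hlt
    · subst heq
      have haW : conjA a W = W := Subgroup.eq_of_le_of_card_ge haA (card_conjA a W).ge
      refine hnc W hA le_rfl ?_ a ⟨ha, mem_normalizer_of_conjA_eq haW⟩
      rw [inf_eq_left.2 Subgroup.le_normalizer]
      exact sylIn_of_le hW (le_inf hW.le Subgroup.le_normalizer) inf_le_left
    -- a representative with Sylow normalizer
    obtain ⟨R₀, hR₀, hR₀le⟩ := exists_sylIn_ge (p := p)
      (X := W ⊓ Subgroup.normalizer (A : Set (MulAut Q)))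
      (N := G ⊓ Subgroup.normalizer (A : Set (MulAut Q)))
      (inf_le_inf_right _ hW.le) (hW.isPGroup.to_le inf_le_left)
    obtain ⟨g, hg, hgR⟩ := hW.exists_conj_le (hR₀.le.trans inf_le_left) hR₀.isPGroup
    set A₀ := conjA g A
    have hA₀ : Inn Q ≤ A₀ := conjA_inn g hA
    have hA₀W : A₀ ≤ W := by
      rintro _ ⟨x, hx, rfl⟩
      exact hgR x (hR₀le ⟨hAU hx, Subgroup.le_normalizer hx⟩)
    have hsyl₀ : SylIn p (W ⊓ Subgroup.normalizer (A₀ : Set (MulAut Q)))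
        (G ⊓ Subgroup.normalizer (A₀ : Set (MulAut Q))) := by
      obtain ⟨R₁, hR₁, hR₁le⟩ := exists_sylIn_ge (p := p)
        (X := W ⊓ Subgroup.normalizer (A₀ : Set (MulAut Q)))
        (N := G ⊓ Subgroup.normalizer (A₀ : Set (MulAut Q)))
        (inf_le_inf_right _ hW.le) (hW.isPGroup.to_le inf_le_left)
      obtain ⟨g', hg', hgR'⟩ := hR₀.exists_conj_le (X := conjA g⁻¹ R₁) (by
        rintro _ ⟨x, hx, rfl⟩
        have hx' := hR₁.le hx
        refine ⟨mul_mem (mul_mem (G.inv_mem hg) hx'.1) (G.inv_mem (G.inv_mem hg)),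
          mem_normalizer_of_conjA_eq ?_⟩
        show conjA (g⁻¹ * x * g⁻¹⁻¹) A = A
        rw [inv_inv, ← conjA_conjA, ← conjA_conjA, conjA_eq_of_mem_normalizer hx'.2,
          conjA_conjA, inv_mul_cancel, conjA_one]) (hR₁.isPGroup.map _)
      suffices h : R₁ ≤ W ⊓ Subgroup.normalizer (A₀ : Set (MulAut Q)) by
        obtain rfl := le_antisymm hR₁le h
        exact hR₁
      have hcard : Nat.card R₁ ≤ Nat.card R₀ := by
        refine (card_conjA g⁻¹ R₁).symm.le.trans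
          (Nat.card_le_card_of_injective
            (fun x : conjA g⁻¹ R₁ => (⟨_, hgR' x x.2⟩ : R₀)) fun x y h =>
              Subtype.ext (mul_left_cancel (mul_right_cancel (congrArg Subtype.val h))))
      have hle : conjA g R₀ ≤ W ⊓ Subgroup.normalizer (A₀ : Set (MulAut Q)) := by
        rintro _ ⟨x, hx, rfl⟩
        refine ⟨hgR x hx, mem_normalizer_of_conjA_eq ?_⟩
        show conjA (g * x * g⁻¹) (conjA g A) = conjA g A
        rw [conjA_conjA, inv_mul_cancel_right, ← conjA_conjA,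
          conjA_eq_of_mem_normalizer (hR₀.le hx).2]
      exact (Subgroup.eq_of_le_of_card_ge (hle.trans hR₁le)
        (by rw [card_conjA]; exact hcard)).ge.trans hle
    have hbig : ∀ B : Subgroup (MulAut Q), Inn Q ≤ B → B ≤ W → Nat.card B = Nat.card A →
        ∀ h ∈ G, (∀ x ∈ W ⊓ Subgroup.normalizer (B : Set (MulAut Q)), h * x * h⁻¹ ∈ W) →
        d.Extends Q h B := by
      intro B hB hBW hcard h hh hconj
      have hBlt : B < W := lt_of_le_of_ne hBW fun e => by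
        subst e
        exact hlt.ne (Subgroup.eq_of_le_of_card_ge hAU hcard.le)
      obtain ⟨x, hxW, hxN, hxB⟩ := exists_normalizer_mem_not_mem (p := p) hW.isPGroup hBlt
      have hlt' : B < W ⊓ Subgroup.normalizer (B : Set (MulAut Q)) :=
        lt_of_le_of_ne (le_inf hBW Subgroup.le_normalizer) fun e =>
          hxB (e.ge ⟨hxW, hxN⟩)
      refine extends_mono (IH (Nat.card W -
        Nat.card ↥(W ⊓ Subgroup.normalizer (B : Set (MulAut Q)))) ?_
        (hB.trans hlt'.le) inf_le_left ?_ hh rfl) hlt'.le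
      · have h1 : Nat.card B < Nat.card ↥(W ⊓ Subgroup.normalizer (B : Set (MulAut Q))) := by
          have : Finite ↥(W ⊓ Subgroup.normalizer (B : Set (MulAut Q))) :=
            Finite.of_injective _ Subtype.val_injective
          exact lt_of_le_of_ne (Subgroup.card_le_of_le hlt'.le) fun e =>
            hlt'.ne (Subgroup.eq_of_le_of_card_ge hlt'.le e.ge)
        have h2 : Nat.card ↥(W ⊓ Subgroup.normalizer (B : Set (MulAut Q))) ≤ Nat.card W :=
          Subgroup.card_le_of_le inf_le_left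
        omega
      · rintro _ ⟨y, hy, rfl⟩
        exact hconj y hy
    have h1 : d.Extends Q g A := hbig A hA hAU rfl g hg fun x hx => hgR x (hR₀le hx)
    set A₂ := conjA a A
    obtain ⟨m, hm, hmconj⟩ := hsyl₀.exists_conj_le
      (X := conjA (g * a⁻¹) (W ⊓ Subgroup.normalizer (A₂ : Set (MulAut Q)))) (by
        rintro _ ⟨x, hx, rfl⟩
        refine ⟨mul_mem (mul_mem (mul_mem hg (G.inv_mem ha)) (hW.le hx.1))
          (G.inv_mem (mul_mem hg (G.inv_mem ha))), mem_normalizer_of_conjA_eq ?_⟩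
        show conjA (g * a⁻¹ * x * (g * a⁻¹)⁻¹) (conjA g A) = conjA g A
        rw [conjA_conjA, show g * a⁻¹ * x * (g * a⁻¹)⁻¹ * g = g * a⁻¹ * x * a by group,
          ← conjA_conjA, ← conjA_conjA, conjA_eq_of_mem_normalizer hx.2, conjA_conjA,
          inv_mul_cancel_right]) ((hW.isPGroup.to_le inf_le_left).map _)
    set g₂ := m * (g * a⁻¹)
    have h2 : d.Extends Q g₂ A₂ := by
      refine hbig A₂ (conjA_inn a hA) haA (card_conjA a A) g₂
        (mul_mem hm.1 (mul_mem hg (G.inv_mem ha))) fun x hx => ?_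
      have := (hmconj _ (conjA_mem hx)).1
      rwa [show m * (g * a⁻¹ * x * (g * a⁻¹)⁻¹) * m⁻¹ = g₂ * x * g₂⁻¹ by
        simp only [g₂]; group] at this
    have h3 : d.Extends Q m A₀ := hnc A₀ hA₀ hA₀W hsyl₀ m hm
    have e2 : conjA g₂ A₂ = A₀ := by
      show conjA (m * (g * a⁻¹)) (conjA a A) = conjA g A
      rw [conjA_conjA, show m * (g * a⁻¹) * a = m * g by group, ← conjA_conjA,
        conjA_eq_of_mem_normalizer hm.2]
    have h4 := extends_inv hQ (conjA_inn a hA) haA h2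
    rw [e2] at h4
    have h5 : d.Extends Q (m * g) A := extends_comp hQ hA hAU h1 h3
    have h6 := extends_comp hQ hA hAU h5 (b := g₂⁻¹) (by
      rwa [← conjA_conjA, conjA_eq_of_mem_normalizer hm.2])
    rwa [show g₂⁻¹ * (m * g) = a by simp only [g₂]; group] at h6

end CentralData

end Cfsg.Agent.FusionAlperin
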