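import Cfsg.Agent.FusionAlperin.Pullback.Commute
import Mathlib.GroupTheory.Transfer

/-!
The local groups of the pullback: `Aut_U(Q)` together with the elements of order prime to `p`.
-/

set_option autoImplicit false
set_option linter.unusedSectionVars false

open Cfsg Cfsg.FusionSystem
open Cfsg.Agent.FusionSys
open scoped commutatorElement

namespace Cfsg.Agent.FusionAlperin

theorem exists_mul_of_normalizing {G : Type*} [Group G] {A B : Subgroup G}
    (h : ∀ a ∈ A, ∀ b ∈ B, a * b * a⁻¹ ∈ B) {g : G} (hg : g ∈ A ⊔ B) :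
    ∃ a ∈ A, ∃ b ∈ B, g = a * b := by
  let C : Subgroup G :=
    { carrier := {g | ∃ a ∈ A, ∃ b ∈ B, g = a * b}
      one_mem' := ⟨1, one_mem _, 1, one_mem _, (one_mul 1).symm⟩
      mul_mem' := by
        rintro _ _ ⟨a, ha, b, hb, rfl⟩ ⟨c, hc, e, he, rfl⟩
        refine ⟨a * c, mul_mem ha hc, c⁻¹ * b * c * e, mul_mem ?_ he, by group⟩
        have := h c⁻¹ (A.inv_mem hc) b hb
        rwa [inv_inv] at this
      inv_mem' := by
        rintro _ ⟨a, ha, b, hb, rfl⟩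
        exact ⟨a⁻¹, A.inv_mem ha, a * b⁻¹ * a⁻¹, h a ha _ (B.inv_mem hb), by group⟩ }
  exact (sup_le (fun a ha => ⟨a, ha, 1, one_mem _, (mul_one a).symm⟩)
    (fun b hb => ⟨1, one_mem _, b, hb, (one_mul b).symm⟩) : A ⊔ B ≤ C) hg

/-- In a finite group, an element of a Sylow subgroup `P` that lies in the subgroup generated by
`A ≤ P` and elements of order prime to `p` lies in `A`, if `A` contains the focal subgroup. -/
theorem mem_of_focal_le {G : Type*} [Group G] [Finite G] {p : ℕ} [Fact p.Prime] (P : Sylow p G)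
    {A : Subgroup G} (hAP : A ≤ P) (hfoc : Subgroup.focalSubgroup (P : Subgroup G) ≤ A) {g : G}
    (hgP : g ∈ (P : Subgroup G))
    (hg : g ∈ A ⊔ Subgroup.closure {x : G | Nat.Coprime (orderOf x) p}) : g ∈ A := by
  set J : Subgroup G := A ⊔ _root_.commutator G with hJ
  have hJn : J.Normal := by
    refine Subgroup.Normal.mk fun a ha g => ?_
    have h1 : g * a * g⁻¹ * a⁻¹ ∈ J :=
      Subgroup.mem_sup_right (Subgroup.commutator_mem_commutator (Subgroup.mem_top g)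
        (Subgroup.mem_top a))
    simpa using J.mul_mem h1 ha
  set π := QuotientGroup.mk' J
  have hcomm : ∀ a b : G ⧸ J, a * b = b * a := by
    intro a b
    obtain ⟨x, rfl⟩ := QuotientGroup.mk'_surjective J a
    obtain ⟨y, rfl⟩ := QuotientGroup.mk'_surjective J b
    rw [← map_mul, ← map_mul]
    refine (QuotientGroup.eq).2 (Subgroup.mem_sup_right ?_)
    have h1 := Subgroup.commutator_mem_commutator (Subgroup.mem_top (y⁻¹)) (Subgroup.mem_top (x⁻¹))
    have e : (x * y)⁻¹ * (y * x) = ⁅y⁻¹, x⁻¹⁆ := by rw [commutatorElement_def]; group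
    rw [e]
    exact h1
  obtain ⟨a, m, hm, hcard⟩ := Nat.exists_eq_pow_mul_and_not_dvd
    (Nat.card_pos (α := G ⧸ J)).ne' p (Fact.out : p.Prime).ne_one
  have hmp : Nat.Coprime m p := (((Fact.out : p.Prime).coprime_iff_not_dvd).2 hm).symm
  let W : Subgroup G :=
    { carrier := {k | π k ^ m = 1}
      one_mem' := by simp
      mul_mem' := fun {x y} hx hy => by
        show π (x * y) ^ m = 1
        rw [map_mul, (show Commute (π x) (π y) from hcomm _ _).mul_pow, hx, hy, mul_one]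
      inv_mem' := fun {x} hx => by
        show π x⁻¹ ^ m = 1
        rw [map_inv, inv_pow, hx, inv_one] }
  have hW : A ⊔ Subgroup.closure {x : G | Nat.Coprime (orderOf x) p} ≤ W := by
    refine sup_le (fun x hx => ?_) ((Subgroup.closure_le _).2 fun x hx => ?_)
    · show π x ^ m = 1
      rw [show π x = 1 from (QuotientGroup.eq_one_iff _).2 (Subgroup.mem_sup_left hx), one_pow]
    · show π x ^ m = 1
      have h1 : orderOf (π x) ∣ orderOf x := orderOf_map_dvd π x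
      have h2 : orderOf (π x) ∣ p ^ a * m := hcard ▸ orderOf_dvd_natCard _
      exact orderOf_dvd_iff_pow_eq_one.1
        ((Nat.Coprime.coprime_dvd_left h1 hx |>.pow_right a).dvd_of_dvd_mul_left h2)
  obtain ⟨i, hi⟩ := P.2 ⟨g, hgP⟩
  have hi' : π g ^ p ^ i = 1 := by
    rw [← map_pow, show g ^ p ^ i = 1 by simpa using congrArg Subtype.val hi, map_one]
  have hgJ : g ∈ J := (QuotientGroup.eq_one_iff g).1 (coprime_trivial hmp (hW hg) hi')
  obtain ⟨t, ht, c, hc, rfl⟩ := Subgroup.mem_sup_of_normal_right.1 hgJ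
  have hcP : c ∈ (P : Subgroup G) := by
    have := (P : Subgroup G).mul_mem ((P : Subgroup G).inv_mem (hAP ht)) hgP
    rwa [inv_mul_cancel_left] at this
  haveI : (P : Subgroup G).FiniteIndex := inferInstance
  exact A.mul_mem ht (hfoc ((Subgroup.commutator_inf_eq_focalSubgroup P).le ⟨hc, hcP⟩))

namespace CentralData

variable {Ω : Type*} [Group Ω] {Ω' : Type*} [Group Ω'] {S : Subgroup Ω} {S' V : Subgroup Ω'}
  {p : ℕ} (d : CentralData S S' V p) [Finite S] [Fact p.Prime]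

/-- The elements of order prime to `p` in the pullback. -/
def ppSet (Q : Subgroup Ω) : Set (MulAut Q) :=
  {a | a ∈ d.pull.autGroup Q ∧ Nat.Coprime (orderOf a) p}

/-- `Aut_U(Q)` with the elements of order prime to `p`. -/
def loc (Q : Subgroup Ω) : Subgroup (MulAut Q) :=
  autInducedBy d.U Q ⊔ Subgroup.closure (d.ppSet Q)

theorem autU_le_loc (Q : Subgroup Ω) : autInducedBy d.U Q ≤ d.loc Q := le_sup_left

theorem pp_mem_loc {Q : Subgroup Ω} {a : MulAut Q} (ha : a ∈ d.pull.autGroup Q)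
    (ho : Nat.Coprime (orderOf a) p) : a ∈ d.loc Q :=
  Subgroup.mem_sup_right (Subgroup.subset_closure ⟨ha, ho⟩)

theorem loc_le_pull {Q : Subgroup Ω} (hQ : Q ≤ d.U) : d.loc Q ≤ d.pull.autGroup Q :=
  sup_le (d.autU_le_pull hQ) ((Subgroup.closure_le _).2 fun _ h => h.1)

theorem inn_le_loc {Q : Subgroup Ω} (hQ : Q ≤ d.U) : Inn Q ≤ d.loc Q :=
  (inn_le_autInducedBy hQ).trans le_sup_left

theorem conj_mem_ppSet {Q : Subgroup Ω} {g a : MulAut Q} (hg : g ∈ d.pull.autGroup Q)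
    (ha : a ∈ d.ppSet Q) : g * a * g⁻¹ ∈ d.ppSet Q := by
  refine ⟨mul_mem (mul_mem hg ha.1) ((d.pull.autGroup Q).inv_mem hg), ?_⟩
  show Nat.Coprime (orderOf (MulAut.conj g a)) p
  rw [MulEquiv.orderOf_eq]
  exact ha.2

theorem comm_mem_inn {Q : Subgroup Ω} (hQ : d.Hc Q) {k g : MulAut Q} (hk : k ∈ d.K Q)
    (hg : g ∈ d.pull.autGroup Q) : k * g * k⁻¹ * g⁻¹ ∈ Inn Q := by
  have h := (Inn Q).inv_mem (d.ck_of_hc hQ g hg k hk)
  simpa [mul_assoc] using h

theorem conjK_mem_loc {Q : Subgroup Ω} (hQ : d.Hc Q) {k g : MulAut Q} (hk : k ∈ d.K Q)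
    (hg : g ∈ d.loc Q) : k * g * k⁻¹ ∈ d.loc Q := by
  have h := mul_mem (d.inn_le_loc hQ.2.1 (d.comm_mem_inn hQ hk (d.loc_le_pull hQ.2.1 hg))) hg
  simpa using h

/-- `Aut_U(Q) K`. -/
def PK (Q : Subgroup Ω) : Subgroup (MulAut Q) := autInducedBy d.U Q ⊔ d.K Q

theorem exists_mul_PK {Q : Subgroup Ω} (hQ : Q ≤ d.U) {g : MulAut Q} (hg : g ∈ d.PK Q) :
    ∃ t ∈ autInducedBy d.U Q, ∃ k ∈ d.K Q, g = t * k :=
  exists_mul_of_normalizing (fun _ ht _ hk => d.conj_mem_K (hQ.trans d.U_le)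
    ((d.mem_pull_aut hQ).1 (d.autU_le_pull hQ ht)).1 hk) hg

theorem PK_le_pull {Q : Subgroup Ω} (hQ : Q ≤ d.U) : d.PK Q ≤ d.pull.autGroup Q :=
  sup_le (d.autU_le_pull hQ) (d.K_le_pull hQ)

theorem isPGroup_PK {Q : Subgroup Ω} (hQ : Q ≤ d.U) : IsPGroup p (d.PK Q) := by
  refine IsPGroup.to_sup_of_normal_right' (isPGroup_autInducedBy (d.hS.to_le d.U_le) Q)
    (d.isPGroup_K (hQ.trans d.U_le)) ?_
  intro t ht
  have hnorm : ∀ t ∈ autInducedBy d.U Q, ∀ k ∈ d.K Q, t * k * t⁻¹ ∈ d.K Q :=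
    fun t ht k hk => d.conj_mem_K (hQ.trans d.U_le)
      ((d.mem_pull_aut hQ).1 (d.autU_le_pull hQ ht)).1 hk
  rw [Subgroup.mem_normalizer_iff]
  refine fun k => ⟨hnorm t ht k, fun hk => ?_⟩
  have := hnorm t⁻¹ ((autInducedBy d.U Q).inv_mem ht) _ hk
  simpa [mul_assoc] using this

/-- `Aut_U(Q) K` is a Sylow subgroup of the pullback. -/
theorem sylIn_PK {Q : Subgroup Ω} (hQ : d.Hc Q) (ht : TFN d.F d.U Q) :
    SylIn p (d.PK Q) (d.pull.autGroup Q) := by
  have hQU := hQ.2.1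
  have hQS := hQ.le_S
  have := d.finite_V
  have : Finite Q := finite_of_le ‹_› hQS
  have hBfn : d.B.IsFullyNormalized (d.img Q) :=
    tfn_fullyNormalized d.inv_B.1 (d.tfn_img ht hQ.1)
  obtain ⟨-, hBa⟩ := saturated_fullyNormalized d.pgroup_V d.saturated_B hBfn
  have hsylB : SylIn p (autInducedBy V (d.img Q)) (d.B.autGroup (d.img Q)) :=
    ⟨autInducedBy_le_autGroup d.B (d.img_le_V hQU), hBa.2⟩
  obtain ⟨R, hR, hle⟩ := exists_sylIn_ge (d.PK_le_pull hQU) (d.isPGroup_PK hQU)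
  suffices h : R ≤ d.PK Q by
    obtain rfl : d.PK Q = R := le_antisymm hle h
    exact hR
  let I : Subgroup (MulAut (d.img Q)) :=
    { carrier := {b | ∃ a ∈ R, d.Over a b}
      one_mem' := ⟨1, one_mem _, Over.one⟩
      mul_mem' := fun {b b'} ⟨a, h1, h3⟩ ⟨a', h1', h3'⟩ =>
        ⟨a * a', mul_mem h1 h1', h3.mul hQS h3'⟩
      inv_mem' := fun {b} ⟨a, h1, h3⟩ => ⟨a⁻¹, R.inv_mem h1, h3.inv hQS⟩ }
  have hIB : I ≤ d.B.autGroup (d.img Q) := by
    rintro b ⟨a, ha, hab⟩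
    obtain ⟨-, b', hb', hab'⟩ := (d.mem_pull_aut hQU).1 (hR.le ha)
    exact hab.unique hQS hab' ▸ hb'
  have hIp : IsPGroup p I := by
    rintro ⟨b, a, ha, hab⟩
    obtain ⟨i, hi⟩ := hR.isPGroup ⟨a, ha⟩
    refine ⟨i, Subtype.ext ?_⟩
    have h := hab.pow hQS (p ^ i)
    rw [show a ^ p ^ i = 1 from congrArg Subtype.val hi] at h
    exact h.unique hQS Over.one
  have hVI : autInducedBy V (d.img Q) ≤ I := by
    intro b hb
    obtain ⟨v, hv, hvb⟩ := mem_autInducedBy.1 hb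
    obtain ⟨u, hu, huv⟩ := d.π_surj (d.V_le hv)
    have huN : u ∈ normalizerIn S Q :=
      d.mem_normalizer_of_π hQ.1 hQS hu (huv.symm ▸ mem_normalizer_of_conj_eq b hvb)
    refine ⟨_, hle (Subgroup.mem_sup_left (mem_autInducedBy.2
      ⟨u, d.mem_U.2 ⟨hu, huv.symm ▸ hv⟩, fun _ => rfl⟩ :
        Q.normalizerMonoidHom ⟨u, huN.2⟩ ∈ autInducedBy d.U Q)), fun x h => ?_⟩
    rw [hvb, ← huv]
    exact (d.π_conj hu (hQS x.2)).symm
  have hIV := hsylB.le_of_ge hIB hIp hVI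
  intro a ha
  obtain ⟨-, b, -, hab⟩ := (d.mem_pull_aut hQU).1 (hR.le ha)
  obtain ⟨v, hv, hvb⟩ := mem_autInducedBy.1 (hIV ⟨a, ha, hab⟩)
  obtain ⟨u, hu, huv⟩ := d.π_surj (d.V_le hv)
  have huN : u ∈ normalizerIn S Q :=
    d.mem_normalizer_of_π hQ.1 hQS hu (huv.symm ▸ mem_normalizer_of_conj_eq b hvb)
  have hc : Q.normalizerMonoidHom ⟨u, huN.2⟩ ∈ autInducedBy d.U Q :=
    mem_autInducedBy.2 ⟨u, d.mem_U.2 ⟨hu, huv.symm ▸ hv⟩, fun _ => rfl⟩
  have hover : d.Over (Q.normalizerMonoidHom ⟨u, huN.2⟩) b := fun x h => by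
    rw [hvb, ← huv]
    exact (d.π_conj hu (hQS x.2)).symm
  have hk := hover.mem_K hQS ((d.mem_pull_aut hQU).1 (d.autU_le_pull hQU hc)).1
    ((d.mem_pull_aut hQU).1 (hR.le ha)).1 hab
  have := mul_mem (Subgroup.mem_sup_left (T := d.K Q) hc) (Subgroup.mem_sup_right hk)
  rwa [mul_inv_cancel_left] at this

theorem loc_inf_K_fn {Q : Subgroup Ω} (hQ : d.Hc Q) (hn : d.F.IsFullyNormalized Q)
    {k : MulAut Q} (hk : k ∈ d.loc Q) (hkK : k ∈ d.K Q) : k ∈ Inn Q := by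
  have hQU := hQ.2.1
  have hQS := hQ.le_S
  have : Finite Q := finite_of_le ‹_› hQS
  have hsat := saturated_fullyNormalized d.hS d.hF hn
  have hrec := saturated_fullyCentralized d.hS d.hF hsat.1
  have hPS : d.PK Q ≤ autInducedBy S Q := by
    refine sup_le (autInducedBy_mono d.U_le Q) fun k hk => ?_
    obtain ⟨χ, hχ, h⟩ := exists_conj_le_autInducedBy hsat.2 (d.isPGroup_K hQS) fun a ha => ha.1
    have h1 := d.conj_mem_K hQS ((d.F.autGroup Q).inv_mem hχ) hk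
    have h2 := h _ h1
    rwa [inv_inv, show χ * (χ⁻¹ * k * χ) * χ⁻¹ = k by group] at h2
  have hfuse : ∀ g ∈ d.pull.autGroup Q, ∀ t ∈ autInducedBy d.U Q, g * t * g⁻¹ ∈ d.PK Q →
      g * t * g⁻¹ ∈ autInducedBy d.U Q := by
    intro g hg t ht hgt
    obtain ⟨v, hv, hvt⟩ := mem_autInducedBy.1 ht
    have hvN : v ∈ normalizerIn S Q := ⟨d.U_le hv, mem_normalizer_of_conj_eq t hvt⟩
    have hvc : v ∈ carried S Q g := by
      refine ⟨⟨v, hvN.2⟩, ?_, rfl⟩
      have e : Q.normalizerMonoidHom ⟨v, hvN.2⟩ = t := MulEquiv.ext fun x => Subtype.ext (hvt x).symm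
      show g * Q.normalizerMonoidHom ⟨v, hvN.2⟩ * g⁻¹ ∈ autInducedBy S Q
      rw [e]
      exact hPS hgt
    obtain ⟨ψ, hψ, hψe⟩ := exists_ext_aut' hrec ((d.mem_pull_aut hQU).1 hg).1
      (T := normalizerIn S Q ⊓ carried S Q g)
      (le_inf (le_normalizerIn hQS) (le_carried_self d.F hQS g)) inf_le_left inf_le_right
    set w : ↥(normalizerIn S Q ⊓ carried S Q g) := ⟨v, hvN, hvc⟩
    refine mem_autInducedBy.2 ⟨ψ w, sc_map_mem d.sc_U hψ (x := w) hv, fun y => ?_⟩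
    obtain ⟨x, rfl⟩ := g.surjective y
    simp only [MulAut.mul_apply, MulAut.inv_def, MulEquiv.symm_apply_apply]
    rw [← hψe, ← hψe, ← map_inv, ← map_mul, ← map_mul]
    exact congrArg ψ (Subtype.ext (hvt x))
  set G := d.pull.autGroup Q
  set A := (autInducedBy d.U Q).subgroupOf G
  obtain ⟨-, T, hT⟩ := d.sylIn_PK hQ (d.tfn_of_fn hn hQU)
  have hAT : A ≤ (T : Subgroup G) := by
    rw [hT]
    exact fun x hx => Subgroup.mem_sup_left hx
  have hfoc : Subgroup.focalSubgroup (T : Subgroup G) ≤ A := by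
    rw [Subgroup.focalSubgroup_def, Subgroup.closure_le]
    rintro _ ⟨hc, x, hx, u, rfl⟩
    rw [hT] at hc hx
    obtain ⟨t, ht, l, hl, hxe⟩ := d.exists_mul_PK hQU hx
    show (x : MulAut Q) * u * (x : MulAut Q)⁻¹ * (u : MulAut Q)⁻¹ ∈ autInducedBy d.U Q
    have hinn : l * u * l⁻¹ * (u : MulAut Q)⁻¹ ∈ autInducedBy d.U Q :=
      inn_le_autInducedBy hQU (d.comm_mem_inn hQ hl u.2)
    have e : (x : MulAut Q) * u * (x : MulAut Q)⁻¹ * (u : MulAut Q)⁻¹ =
        t * (l * u * l⁻¹ * (u : MulAut Q)⁻¹) * t⁻¹ * (t * (u * t⁻¹ * (u : MulAut Q)⁻¹)) := by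
      rw [show (x : MulAut Q) = t * l from hxe]; group
    have hcP : (x : MulAut Q) * u * (x : MulAut Q)⁻¹ * (u : MulAut Q)⁻¹ ∈ d.PK Q := hc
    rw [e] at hcP ⊢
    have h2 := mul_mem (mul_mem ht hinn) ((autInducedBy d.U Q).inv_mem ht)
    have h3 : t * (u * t⁻¹ * (u : MulAut Q)⁻¹) ∈ d.PK Q := by
      have := mul_mem ((d.PK Q).inv_mem (Subgroup.mem_sup_left h2)) hcP
      rwa [inv_mul_cancel_left] at this
    have h4 : (u : MulAut Q) * t⁻¹ * (u : MulAut Q)⁻¹ ∈ d.PK Q := by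
      have := mul_mem ((d.PK Q).inv_mem (Subgroup.mem_sup_left ht)) h3
      rwa [inv_mul_cancel_left] at this
    exact mul_mem h2 (mul_mem ht (hfuse u u.2 t⁻¹ ((autInducedBy d.U Q).inv_mem ht) h4))
  have hloc : d.loc Q ≤
      (A ⊔ Subgroup.closure {x : G | Nat.Coprime (orderOf x) p}).map G.subtype := by
    refine sup_le (fun a ha => ⟨⟨a, d.autU_le_pull hQU ha⟩, Subgroup.mem_sup_left ha, rfl⟩)
      ((Subgroup.closure_le _).2 fun a ha => ⟨⟨a, ha.1⟩, Subgroup.mem_sup_right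
        (Subgroup.subset_closure ?_), rfl⟩)
    show Nat.Coprime (orderOf (⟨a, ha.1⟩ : G)) p
    rw [Subgroup.orderOf_mk]
    exact ha.2
  obtain ⟨k, hk', rfl⟩ := hloc hk
  have hkA : k ∈ A := mem_of_focal_le T hAT hfoc (by
    rw [hT]; exact Subgroup.mem_sup_right hkK) hk'
  obtain ⟨u, hu, huk⟩ := mem_autInducedBy.1 (show (k : MulAut Q) ∈ autInducedBy d.U Q from hkA)
  have huQ : u ∈ Q := hQ.mem_of_centralizes hu fun x hx => by
    have h : d.π (((k : MulAut Q) ⟨x, hx⟩ : Q) : Ω) = d.π x := hkK.2 ⟨x, hx⟩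
    rw [show (((k : MulAut Q) ⟨x, hx⟩ : Q) : Ω) = u * x * u⁻¹ from huk ⟨x, hx⟩,
      d.π_conj (d.U_le hu) (hQS hx), mul_inv_eq_iff_eq_mul] at h
    exact h
  exact ⟨⟨u, huQ⟩, MulEquiv.ext fun x => Subtype.ext (huk x).symm⟩

/-- The local group meets the kernel in inner automorphisms. -/
theorem loc_inf_K {Q : Subgroup Ω} (hQ : d.Hc Q) {k : MulAut Q} (hk : k ∈ d.loc Q)
    (hkK : k ∈ d.K Q) : k ∈ Inn Q := by
  have hQU := hQ.2.1
  have hQS := hQ.le_S
  obtain ⟨R, hQR, hR⟩ := exists_fullyNormalized d.F hQS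
  obtain ⟨χ, hχ, -, hχm⟩ := exists_normalizer_map_fullyNormalized d.hS d.hF hR hQR
  have hQN := le_normalizerIn (S := S) hQS
  have hr : (restr hQN χ).range = R := by rw [range_restr, hχm]
  set e := toIso d.F (restr_mem d.F hQN hχ) hr
  have he : IsIso d.F e := toIso_isIso d.F _ hr
  have hloc : d.loc Q ≤ (d.loc R).comap (MulAut.congr e).toMonoidHom := by
    refine sup_le (fun a ha => ?_) ((Subgroup.closure_le _).2 fun a ha => ?_)
    · obtain ⟨u, hu, hua⟩ := mem_autInducedBy.1 ha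
      have huN : u ∈ normalizerIn S Q := ⟨d.U_le hu, mem_normalizer_of_conj_eq a hua⟩
      refine d.autU_le_loc R (mem_autInducedBy.2 ⟨χ ⟨u, huN⟩,
        sc_map_mem d.sc_U hχ (x := ⟨u, huN⟩) hu, fun y => ?_⟩)
      obtain ⟨x, rfl⟩ := e.surjective y
      show (MulAut.congr e a (e x) : Ω) = _
      rw [autCongr_apply, MulEquiv.symm_apply_apply]
      show χ (Subgroup.inclusion hQN (a x)) = _ * χ (Subgroup.inclusion hQN x) * _
      rw [← map_inv, ← map_mul, ← map_mul]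
      exact congrArg χ (Subtype.ext (hua x))
    · refine d.pp_mem_loc (d.congr_mem_pull hQU he ha.1) ?_
      exact ((congrArg (Nat.Coprime · p) (MulEquiv.orderOf_eq (MulAut.congr e) a)).mpr ha.2 : _)
  have h := d.loc_inf_K_fn (hQ.congr he) hR (hloc hk) (d.congr_mem_K he hkK)
  have h2 : MulAut.congr e.symm (MulAut.congr e k) ∈ Inn Q := congr_mem_inn e.symm h
  rwa [show MulAut.congr e.symm (MulAut.congr e k) = k by ext x; simp] at h2

/-- The pullback is the local group times the kernel. -/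
theorem pull_le_loc_sup_K {Q : Subgroup Ω} (hQ : d.Hc Q) (ht : TFN d.F d.U Q) :
    d.pull.autGroup Q ≤ d.loc Q ⊔ d.K Q := by
  have : Finite Q := finite_of_le ‹_› hQ.le_S
  exact le_of_sylow_pprime (d.sylIn_PK hQ ht) (sup_le_sup_right (d.autU_le_loc Q) _)
    fun a ha ho => Subgroup.mem_sup_left (d.pp_mem_loc ha ho)

theorem exists_loc_mul_K {Q : Subgroup Ω} (hQ : d.Hc Q) (ht : TFN d.F d.U Q) {g : MulAut Q}
    (hg : g ∈ d.pull.autGroup Q) : ∃ a ∈ d.loc Q, ∃ k ∈ d.K Q, g = a * k :=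
  exists_mul_of_normalizing (fun _ ha _ hk => d.conj_mem_K hQ.le_S
    ((d.mem_pull_aut hQ.2.1).1 (d.loc_le_pull hQ.2.1 ha)).1 hk) (d.pull_le_loc_sup_K hQ ht hg)

/-- The local group is normal in the pullback. -/
theorem conj_mem_loc {Q : Subgroup Ω} (hQ : d.Hc Q) (ht : TFN d.F d.U Q) {g a : MulAut Q}
    (hg : g ∈ d.pull.autGroup Q) (ha : a ∈ d.loc Q) : g * a * g⁻¹ ∈ d.loc Q := by
  obtain ⟨b, hb, k, hk, rfl⟩ := d.exists_loc_mul_K hQ ht hg
  have h := mul_mem (mul_mem hb (d.conjK_mem_loc hQ hk ha)) ((d.loc Q).inv_mem hb)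
  simpa [mul_assoc] using h

/-- `Aut_U(Q)` is a Sylow subgroup of the local group. -/
theorem sylIn_loc {Q : Subgroup Ω} (hQ : d.Hc Q) (ht : TFN d.F d.U Q) :
    SylIn p (autInducedBy d.U Q) (d.loc Q) := by
  have : Finite Q := finite_of_le ‹_› hQ.le_S
  have h := (d.sylIn_PK hQ ht).inf_normal (d.loc_le_pull hQ.2.1)
    fun n hn c hc => d.conj_mem_loc hQ ht hn hc
  have e : d.PK Q ⊓ d.loc Q = autInducedBy d.U Q := by
    refine le_antisymm (fun x hx => ?_) (le_inf le_sup_left (d.autU_le_loc Q))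
    obtain ⟨t, ht', k, hk, rfl⟩ := d.exists_mul_PK hQ.2.1 hx.1
    have hk2 : k ∈ d.loc Q := by
      have := mul_mem ((d.loc Q).inv_mem (d.autU_le_loc Q ht')) hx.2
      rwa [inv_mul_cancel_left] at this
    exact mul_mem ht' (inn_le_autInducedBy hQ.2.1 (d.loc_inf_K hQ hk2 hk))
  rwa [e] at h

end CentralData

end Cfsg.Agent.FusionAlperin
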